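import Groth.Prelude.Def_PCoh
import Mathlib.Algebra.Homology.DerivedCategory.HomologySequence
import Mathlib.Algebra.Homology.Embedding.CochainComplex
import Mathlib.Algebra.Homology.Refinements
import Mathlib.Algebra.Homology.SingleHomology
import Mathlib.Algebra.Homology.HomologicalComplexAbelian
import Mathlib.CategoryTheory.ObjectProperty.ContainsZero

/-!
# Pseudo-coherence in an abelian category: objects of finite type, `n`-quasi-isomorphisms
-/

set_option autoImplicit false
set_option backward.isDefEq.respectTransparency false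
set_option linter.style.haveILetI false

universe w v u

open CategoryTheory Limits HomologicalComplex

namespace Groth.Agent.PCohLib

variable {C : Type u} [Category.{v} C] [Abelian C]

section Obj

variable {P : ObjectProperty C} [P.IsClosedUnderIsomorphisms]

lemma prop_isZero [P.ContainsZero] {Z : C} (h : IsZero Z) : P Z :=
  P.prop_of_iso h.isoZero.symm P.prop_zero

lemma prop_biprod (hsum : ∀ X Y : C, P X → P Y → P (X ⨯ Y)) {X Y : C} (hX : P X) (hY : P Y) :
    P (X ⊞ Y) :=
  P.prop_of_iso (biprod.isoProd X Y).symm (hsum X Y hX hY)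

lemma ft_self {X : C} (h : P X) : PCoh.IsOfFiniteType P X := ⟨X, 𝟙 X, h, inferInstance⟩

lemma ft_epi {X Y : C} (f : X ⟶ Y) [Epi f] (h : PCoh.IsOfFiniteType P X) :
    PCoh.IsOfFiniteType P Y := by
  obtain ⟨E, π, hE, hπ⟩ := h
  exact ⟨E, π ≫ f, hE, inferInstance⟩

lemma ft_iso {X Y : C} (e : X ≅ Y) (h : PCoh.IsOfFiniteType P X) : PCoh.IsOfFiniteType P Y :=
  ft_epi e.hom h

lemma ft_isZero [P.ContainsZero] {Z : C} (h : IsZero Z) : PCoh.IsOfFiniteType P Z :=
  ft_self (prop_isZero h)

lemma ft_biprod (hsum : ∀ X Y : C, P X → P Y → P (X ⨯ Y)) {X Y : C}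
    (hX : PCoh.IsOfFiniteType P X) (hY : PCoh.IsOfFiniteType P Y) :
    PCoh.IsOfFiniteType P (X ⊞ Y) := by
  obtain ⟨E, π, hE, hπ⟩ := hX
  obtain ⟨E', π', hE', hπ'⟩ := hY
  exact ⟨E ⊞ E', biprod.map π π', prop_biprod hsum hE hE', inferInstance⟩

/-- the middle term of an exact sequence of objects of finite type -/
lemma ft_of_exact (hsum : ∀ X Y : C, P X → P Y → P (X ⨯ Y)) (hql : PCoh.IsQuasiLiftable P)
    (S : ShortComplex C) (hS : S.Exact) (hg : Epi S.g) (h₁ : PCoh.IsOfFiniteType P S.X₁)
    (h₃ : PCoh.IsOfFiniteType P S.X₃) : PCoh.IsOfFiniteType P S.X₂ := by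
  obtain ⟨E₁, π₁, hE₁, _⟩ := h₁
  obtain ⟨E₃, π₃, hE₃, _⟩ := h₃
  obtain ⟨E', v, hE', hv⟩ := hql (pullback S.g π₃) E₃ (pullback.snd _ _) inferInstance hE₃
  let f : E₁ ⊞ E' ⟶ S.X₂ := biprod.desc (π₁ ≫ S.f) (v ≫ pullback.fst _ _)
  refine ⟨E₁ ⊞ E', f, prop_biprod hsum hE₁ hE', ?_⟩
  rw [epi_iff_surjective_up_to_refinements]
  intro T y
  obtain ⟨T₁, p₁, _, e, he⟩ := surjective_up_to_refinements_of_epi π₃ (y ≫ S.g)
  obtain ⟨T₂, p₂, _, e', he'⟩ := surjective_up_to_refinements_of_epi (v ≫ pullback.snd S.g π₃) e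
  obtain ⟨T₃, p₃, _, x, hx⟩ := hS.exact_up_to_refinements
    ((p₂ ≫ p₁) ≫ y - e' ≫ v ≫ pullback.fst _ _) (by
      simp only [Preadditive.sub_comp, Category.assoc, pullback.condition, he, reassoc_of% he',
        sub_self])
  obtain ⟨T₄, p₄, _, x', hx'⟩ := surjective_up_to_refinements_of_epi π₁ x
  refine ⟨T₄, p₄ ≫ p₃ ≫ p₂ ≫ p₁, inferInstance, x' ≫ biprod.inl + (p₄ ≫ p₃ ≫ e') ≫ biprod.inr, ?_⟩
  simp only [Preadditive.comp_sub] at hx
  rw [sub_eq_iff_eq_add] at hx
  simp only [f, Preadditive.add_comp, Category.assoc, biprod.inl_desc, biprod.inr_desc]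
  rw [← reassoc_of% hx', show p₄ ≫ p₃ ≫ p₂ ≫ p₁ ≫ y = p₄ ≫ (p₃ ≫ (p₂ ≫ p₁) ≫ y) by
    simp only [Category.assoc], hx]
  simp only [Preadditive.comp_add, Category.assoc]

end Obj

/-- `u` is an isomorphism in cohomology in degrees `> n` and an epimorphism in degree `n`. -/
structure NQis (n : ℤ) {E F : CochainComplex C ℤ} (u : E ⟶ F) : Prop where
  epi : ∀ i, n ≤ i → Epi (homologyMap u i)
  mono : ∀ i, n < i → Mono (homologyMap u i)

namespace NQis

variable {n : ℤ} {E F G : CochainComplex C ℤ} {u : E ⟶ F}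

lemma isIso (h : NQis n u) (i : ℤ) (hi : n < i) : IsIso (homologyMap u i) := by
  haveI := h.epi i hi.le
  haveI := h.mono i hi
  exact isIso_of_mono_of_epi _

lemma of_hyp (hiso : ∀ i, n < i → IsIso (homologyMap u i)) (hepi : Epi (homologyMap u n)) :
    NQis n u where
  epi i hi := by
    obtain rfl | hi := hi.eq_or_lt
    · exact hepi
    · haveI := hiso i hi; infer_instance
  mono i hi := by haveI := hiso i hi; infer_instance

lemma of_quasiIso (n : ℤ) (u : E ⟶ F) [QuasiIso u] : NQis n u :=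
  of_hyp (fun _ _ => inferInstance) inferInstance

lemma mono_n (h : NQis n u) {m : ℤ} (hm : n ≤ m) : NQis m u :=
  ⟨fun i hi => h.epi i (hm.trans hi), fun i hi => h.mono i (hm.trans_lt hi)⟩

lemma comp {v : F ⟶ G} (h : NQis n u) (h' : NQis n v) : NQis n (u ≫ v) where
  epi i hi := by haveI := h.epi i hi; haveI := h'.epi i hi; rw [homologyMap_comp]; infer_instance
  mono i hi := by haveI := h.mono i hi; haveI := h'.mono i hi; rw [homologyMap_comp]; infer_instance

lemma quasiIso (h : ∀ n, NQis n u) : QuasiIso u where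
  quasiIsoAt i := by
    rw [quasiIsoAt_iff_isIso_homologyMap]
    exact (h (i - 1)).isIso i (by lia)

end NQis

section Cone

attribute [local instance] HasDerivedCategory.standard

variable {E F : CochainComplex C ℤ} (u : E ⟶ F)

/-- the connecting map of the mapping cone -/
noncomputable def coneδ (i j : ℤ) (h : i + 1 = j) :
    (CochainComplex.mappingCone u).homology i ⟶ E.homology j :=
  CochainComplex.homologyδOfTriangle (CochainComplex.mappingCone.triangle u) i j h

@[reassoc]
lemma cone_zero₂ (i : ℤ) :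
    homologyMap u i ≫ homologyMap (CochainComplex.mappingCone.inr u) i = 0 :=
  CochainComplex.homologyMap_comp_eq_zero_of_distTriang (CochainComplex.mappingCone.triangle u)
    (DerivedCategory.mappingCone_triangle_distinguished u) i

lemma cone_exact₂ (i : ℤ) : (ShortComplex.mk _ _ (cone_zero₂ u i)).Exact :=
  CochainComplex.homologyMap_exact₂_of_distTriang (CochainComplex.mappingCone.triangle u)
    (DerivedCategory.mappingCone_triangle_distinguished u) i

@[reassoc]
lemma cone_zero₃ (i j : ℤ) (h : i + 1 = j) :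
    homologyMap (CochainComplex.mappingCone.inr u) i ≫ coneδ u i j h = 0 :=
  CochainComplex.homologyMap_homologyδOfTriangle (CochainComplex.mappingCone.triangle u)
    (DerivedCategory.mappingCone_triangle_distinguished u) i j h

lemma cone_exact₃ (i j : ℤ) (h : i + 1 = j) : (ShortComplex.mk _ _ (cone_zero₃ u i j h)).Exact :=
  CochainComplex.homologyMap_exact₃_of_distTriang (CochainComplex.mappingCone.triangle u)
    (DerivedCategory.mappingCone_triangle_distinguished u) i j h

@[reassoc]
lemma cone_zero₁ (i j : ℤ) (h : i + 1 = j) : coneδ u i j h ≫ homologyMap u j = 0 :=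
  CochainComplex.homologyδOfTriangle_homologyMap (CochainComplex.mappingCone.triangle u)
    (DerivedCategory.mappingCone_triangle_distinguished u) i j h

lemma cone_exact₁ (i j : ℤ) (h : i + 1 = j) : (ShortComplex.mk _ _ (cone_zero₁ u i j h)).Exact :=
  CochainComplex.homologyMap_exact₁_of_distTriang (CochainComplex.mappingCone.triangle u)
    (DerivedCategory.mappingCone_triangle_distinguished u) i j h

lemma nqis_iff (n : ℤ) :
    NQis n u ↔ ∀ i, n ≤ i → IsZero ((CochainComplex.mappingCone u).homology i) := by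
  constructor
  · intro h i hi
    haveI := h.epi i hi
    haveI := h.mono (i + 1) (by lia)
    exact (cone_exact₃ u i (i + 1) rfl).isZero_of_both_zeros
      ((cancel_epi (homologyMap u i)).1 (by rw [cone_zero₂, comp_zero]))
      ((cancel_mono (homologyMap u (i + 1))).1 (by rw [cone_zero₁, zero_comp]))
  · intro h
    exact ⟨fun i hi => (cone_exact₂ u i).epi_f ((h i hi).eq_of_tgt _ _),
      fun i hi => (cone_exact₁ u (i - 1) i (by lia)).mono_g ((h (i - 1) (by lia)).eq_of_src _ _)⟩

end Cone

section Single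

variable {E : CochainComplex C ℤ}

/-- a map from a single complex given by a cocycle -/
noncomputable def fromSingle (n : ℤ) {X : C} (x : X ⟶ E.cycles n) :
    (HomologicalComplex.single C (ComplexShape.up ℤ) n).obj X ⟶ E :=
  mkHomFromSingle (x ≫ E.iCycles n) fun k _ => by simp

lemma nqis_fromSingle (n : ℤ) {X : C} (x : X ⟶ E.cycles n) (hx : Epi (x ≫ E.homologyπ n))
    (h : ∀ i, n < i → IsZero (E.homology i)) : NQis n (fromSingle n x) where
  epi i hi := by
    obtain rfl | hi := hi.eq_or_lt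
    · rw [epi_homologyMap_iff_up_to_refinements _ (n - 1) n (n + 1) (by simp) (by simp)]
      intro T y hy
      obtain ⟨T₁, p₁, _, t, ht⟩ := surjective_up_to_refinements_of_epi (x ≫ E.homologyπ n)
        (E.liftCycles y (n + 1) (by simp) hy ≫ E.homologyπ n)
      rw [← Category.assoc, ← Category.assoc,
        E.comp_homologyπ_eq_iff_up_to_refinements (n - 1) n (by simp)] at ht
      obtain ⟨T₂, p₂, _, z, hz⟩ := ht
      refine ⟨T₂, p₂ ≫ p₁, inferInstance,
        (p₂ ≫ t) ≫ (singleObjXSelf (ComplexShape.up ℤ) n X).inv,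
        (isZero_single_obj_X (ComplexShape.up ℤ) n X (n + 1) (by lia)).eq_of_tgt _ _, z, ?_⟩
      have := congrArg (fun f => f ≫ E.iCycles n) hz
      simpa [fromSingle] using this
    · exact ⟨fun _ _ _ => (h i hi).eq_of_src _ _⟩
  mono i hi := ⟨fun _ _ _ => (isZero_single_obj_homology _ _ _ _ (by lia)).eq_of_tgt _ _⟩

end Single

end Groth.Agent.PCohLib
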