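import Groth.Agent.PCohLib.Devissage

/-!
# Pseudo-coherence: coherent classes, triangulated functors
-/

set_option autoImplicit false
set_option linter.unusedSectionVars false
set_option backward.isDefEq.respectTransparency false
set_option linter.style.haveILetI false

universe w w' v v' u u'

open CategoryTheory Limits HomologicalComplex CochainComplex Pretriangulated ZeroObject

namespace Groth.Agent.PCohLib

variable {C : Type u} [Category.{v} C] [Abelian C] [HasDerivedCategory.{w} C]

local notation "HC" => DerivedCategory.homologyFunctor C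

variable {P : ObjectProperty C} [P.IsClosedUnderIsomorphisms] [P.ContainsZero]

omit [HasDerivedCategory.{w} C] [P.ContainsZero] in
lemma kerFT_mono {X Y : C} (f : Y ⟶ X) [Mono f] (h : KerFT P X) : KerFT P Y :=
  fun E u hE => ft_iso (kernelCompMono u f) (h E (u ≫ f) hE)

section Coherent

variable (hsum : ∀ X Y : C, P X → P Y → P (X ⨯ Y)) (hql : PCoh.IsQuasiLiftable P)
  (hcoh : ∀ (X E : C) (u : E ⟶ X), P X → P E → PCoh.IsOfFiniteType P (kernel u))

include hcoh in
lemma kerFT_of_prop {X : C} (h : P X) : KerFT P X := fun E u hE => hcoh X E u h hE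

include hcoh in
lemma quasiStable_of_coherent : PCoh.IsQuasiStableUnderKernels P := by
  intro K hK _ hP
  have h₁ := (K.exactAt_iff' 0 1 2 (by simp) (by simp)).1 (hK 1)
  have hm : Mono (K.d 0 1) := ((HomologicalComplex.sc' K 0 0 1).exact_iff_mono
    (K.shape 0 0 (by simp))).1 ((K.exactAt_iff' 0 0 1 (by simp) (by simp)).1 (hK 0))
  exact ft_of_kerFT _ h₁ hm (ft_self (hP 1 le_rfl)) (kerFT_of_prop hcoh (hP 2 (by omega)))

include hsum hql hcoh

/-- coherent objects are pseudo-coherent -/
lemma pcn_single_of_coherent (d : ℕ) : ∀ {M : C}, PCoh.IsOfFiniteType P M → KerFT P M →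
    PCn P (-(d : ℤ)) ((DerivedCategory.singleFunctor C 0).obj M) := by
  have hqs := quasiStable_of_coherent hcoh
  induction d with
  | zero =>
    intro M hM _
    exact ((pcn_iff_ft hsum hqs hql 0 _ fun i hi => isZero_single_homology M 0 i (by lia)).2
      (ft_iso (singleHomologyIso M 0).symm hM)).mono (by simp)
  | succ d ih =>
    intro M hM hK
    obtain ⟨X, π, hX, _⟩ := hM
    have hS : (ShortComplex.mk (kernel.ι π) π (kernel.condition π)).ShortExact :=
      { exact := ShortComplex.exact_of_f_is_kernel _ (kernelIsKernel π) }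
    refine PCn.of_triangle hsum hqs hql hS.singleTriangle_distinguished ?_ (pcn_single_of_prop hX _)
    exact (ih (hK X π hX) (kerFT_mono (kernel.ι π) (kerFT_of_prop hcoh hX))).mono (by simp)

/-- pseudo-coherence for a coherent class -/
theorem pcn_iff_coherent (n b : ℤ) (F : DerivedCategory C)
    (hb : ∀ i : ℤ, b < i → IsZero ((HC i).obj F)) :
    PCn P n F ↔ PCoh.IsOfFiniteType P ((HC n).obj F) ∧ ∀ i : ℤ, n < i →
      PCoh.IsOfFiniteType P ((HC i).obj F) ∧ KerFT P ((HC i).obj F) := by
  have hqs := quasiStable_of_coherent hcoh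
  constructor
  · rintro ⟨E, hE, ⟨e⟩⟩
    have hZ : ∀ i, n ≤ i → PCoh.IsOfFiniteType P (E.cycles i) := fun i hi =>
      ft_of_kerFT (ShortComplex.mk (E.iCycles i) (E.d i (i + 1)) (E.iCycles_d _ _))
        (ShortComplex.exact_of_f_is_kernel _ (E.cyclesIsKernel _ _ (by simp)))
        inferInstance (ft_self (hE.2 i hi)) (kerFT_of_prop hcoh (hE.2 (i + 1) (by lia)))
    refine ⟨ft_epi (E.homologyπ n ≫ (repHomology e n).hom) (hZ n le_rfl), fun i hi =>
      ⟨ft_epi (E.homologyπ i ≫ (repHomology e i).hom) (hZ i hi.le), ?_⟩⟩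
    have hk : KerFT P (E.homology i) :=
      kerFT_of_exact hsum hql (ShortComplex.mk (E.toCycles (i - 1) i) (E.homologyπ i)
        (E.toCycles_comp_homologyπ _ _))
        (ShortComplex.exact_of_g_is_cokernel _ (E.homologyIsCokernel (i - 1) i (by simp)))
        inferInstance (ft_self (hE.2 (i - 1) (by lia)))
        (kerFT_mono (E.iCycles i) (kerFT_of_prop hcoh (hE.2 i hi.le)))
    exact kerFT_mono (repHomology e i).inv hk
  · rintro ⟨h₀, h⟩
    refine pcn_of_homology' hsum hqs hql n b F hb fun i hi => ?_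
    obtain rfl | hi := hi.eq_or_lt
    · rw [sub_self]
      exact (pcn_iff_ft hsum hqs hql 0 _ fun j hj => isZero_single_homology _ 0 j (by lia)).2
        (ft_iso (singleHomologyIso _ 0).symm h₀)
    · exact (pcn_single_of_coherent hsum hql hcoh (i - n).toNat (h i hi).1 (h i hi).2).mono (by lia)

end Coherent

section Functor

variable {C' : Type u'} [Category.{v'} C'] [Abelian C'] [HasDerivedCategory.{w'} C']
  {P' : ObjectProperty C'} [P'.IsClosedUnderIsomorphisms] [P'.ContainsZero]
  (hsum : ∀ X Y : C, P X → P Y → P (X ⨯ Y))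
  (hqs : PCoh.IsQuasiStableUnderKernels P) (hql : PCoh.IsQuasiLiftable P)
  (hsum' : ∀ X Y : C', P' X → P' Y → P' (X ⨯ Y))
  (hqs' : PCoh.IsQuasiStableUnderKernels P') (hql' : PCoh.IsQuasiLiftable P')
  (Φ : DerivedCategory C ⥤ DerivedCategory C') [Φ.CommShift ℤ] [Φ.IsTriangulated] (a b : ℤ)
  (hi : ∀ E : C, P E → PCn P' a (Φ.obj ((DerivedCategory.singleFunctor C 0).obj E)))
  (hii : ∀ F : DerivedCategory C,
    (∀ i : ℤ, 0 < i → IsZero ((DerivedCategory.homologyFunctor C i).obj F)) →
    ∀ i : ℤ, b < i → IsZero ((DerivedCategory.homologyFunctor C' i).obj (Φ.obj F)))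

include hii in
lemma amplitude (k : ℤ) (F : DerivedCategory C) (h : ∀ i : ℤ, k < i → IsZero ((HC i).obj F))
    (i : ℤ) (hi : k + b < i) : IsZero ((DerivedCategory.homologyFunctor C' i).obj (Φ.obj F)) :=
  (hii (F⟦k⟧) (fun j hj => (h (k + j) (by lia)).of_iso (shiftHomologyIso F k j _ rfl)) (i - k)
    (by lia)).of_iso ((DerivedCategory.homologyFunctor C' (i - k)).mapIso ((Φ.commShiftIso k).app F) ≪≫
      shiftHomologyIso (Φ.obj F) k (i - k) i (by lia)).symm

include hsum' hqs' hql' hi hii

lemma pcn_functor_aux (m n N : ℤ) (hmb : m + b ≤ N) (hna : n + a ≤ N) (d : ℕ) :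
    ∀ (E : CochainComplex C ℤ), m + d ≤ n + 1 → (∀ i : ℤ, m + d ≤ i → IsZero (E.X i)) →
      (∀ i : ℤ, m ≤ i → P (E.X i)) → PCn P' N (Φ.obj (DerivedCategory.Q.obj E)) := by
  induction d with
  | zero =>
    intro E _ hE _
    refine pcn_of_isZero hsum' hqs' hql' fun i hi => amplitude Φ b hii (m - 1) _ (fun j hj => ?_) i
      (by lia)
    exact (ShortComplex.isZero_homology_of_isZero_X₂ _ (hE j (by lia))).of_iso
      ((DerivedCategory.homologyFunctorFactors C j).app E)
  | succ d ih =>
    intro E hd hE hP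
    refine PCn.triangle₂ hsum' hqs' hql'
      (Φ.map_distinguished _ (DerivedCategory.triangleOfSES_distinguished (σSeq_shortExact E (m + d))))
      ?_ ?_
    · obtain ⟨e⟩ := σGE_iso_single E (m + d) fun i hi => hE i (by lia)
      refine (((hi _ (hP (m + d) (by lia))).shift (-(m + d))).mono (by lia)).of_iso ?_
      exact ((Φ.commShiftIso (-(m + d))).app _).symm ≪≫
        Φ.mapIso (singleShiftIso (E.X (m + d)) (m + d) ≪≫ e.symm)
    · refine ih _ (by lia) (fun i hi => isZero_σQuot E (m + d) i hi) fun i hi => ?_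
      by_cases h : i < m + d
      · exact P.prop_of_iso (σQuotIso E (m + d) i h) (hP i hi)
      · exact prop_isZero (isZero_σQuot E (m + d) i (not_lt.1 h))

include hsum hqs hql in
theorem pcn_functor (m n : ℤ) (F : DerivedCategory C) (hF : PCn P m F)
    (hac : ∀ i : ℤ, n < i → IsZero ((HC i).obj F)) :
    PCn P' (max (m + b) (n + a)) (Φ.obj F) := by
  rcases lt_or_ge n m with h | h
  · exact pcn_of_isZero hsum' hqs' hql' fun i hi => amplitude Φ b hii n F hac i (by lia)
  · obtain ⟨E, hE, hE', ⟨e⟩⟩ := exists_rep_bound hsum hqs hql (show m < n + 1 by lia) F hF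
      fun i hi => hac i (by lia)
    exact (pcn_functor_aux hsum' hqs' hql' Φ a b hi hii m n _ (le_max_left _ _) (le_max_right _ _)
      (n + 1 - m).toNat E (by lia) (fun i hi => hE' i (by lia)) hE.2).of_iso (Φ.mapIso e)

end Functor

end Groth.Agent.PCohLib
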