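import Groth.Agent.PCohLib.Derived

/-!
# Pseudo-coherence in the derived category: criteria
-/

set_option autoImplicit false
set_option linter.unusedSectionVars false
set_option backward.isDefEq.respectTransparency false
set_option linter.style.haveILetI false

universe w v u

open CategoryTheory Limits HomologicalComplex CochainComplex Pretriangulated ZeroObject

namespace Groth.Agent.PCohLib

variable {C : Type u} [Category.{v} C] [Abelian C] [HasDerivedCategory.{w} C]
  {P : ObjectProperty C}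

local notation "HC" => DerivedCategory.homologyFunctor C

/-- cohomology of a representative -/
noncomputable def repHomology {E : CochainComplex C ℤ} {F : DerivedCategory C}
    (e : DerivedCategory.Q.obj E ≅ F) (i : ℤ) : E.homology i ≅ (HC i).obj F :=
  ((DerivedCategory.homologyFunctorFactors C i).app E).symm ≪≫ (HC i).mapIso e

lemma exists_rep (F : DerivedCategory C) :
    ∃ E : CochainComplex C ℤ, Nonempty (DerivedCategory.Q.obj E ≅ F) :=
  ⟨_, ⟨DerivedCategory.Q.objObjPreimageIso F⟩⟩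

lemma PCn.shift {n : ℤ} {F : DerivedCategory C} (h : PCn P n F) (m : ℤ) :
    PCn P (n - m) (F⟦m⟧) := by
  obtain ⟨E, ⟨⟨b, hb⟩, hP⟩, ⟨e⟩⟩ := h
  exact ⟨E⟦m⟧, ⟨⟨b - m, fun i hi => hb (i + m) (by lia)⟩, fun i hi => hP (i + m) (by lia)⟩,
    ⟨((DerivedCategory.Q (C := C)).commShiftIso m).app E ≪≫
      (CategoryTheory.shiftFunctor (DerivedCategory C) m).mapIso e⟩⟩

lemma isIso_map_Q_iff {E F : CochainComplex C ℤ} (g : E ⟶ F) (i : ℤ) :
    IsIso ((HC i).map (DerivedCategory.Q.map g)) ↔ IsIso (homologyMap g i) :=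
  NatIso.isIso_map_iff (DerivedCategory.homologyFunctorFactors C i) g

lemma epi_map_Q_iff {E F : CochainComplex C ℤ} (g : E ⟶ F) (i : ℤ) :
    Epi ((HC i).map (DerivedCategory.Q.map g)) ↔ Epi (homologyMap g i) := by
  constructor <;> intro h
  · rw [show homologyMap g i = (DerivedCategory.homologyFunctorFactors C i).inv.app E ≫
      (HC i).map (DerivedCategory.Q.map g) ≫
        (DerivedCategory.homologyFunctorFactors C i).hom.app F by simp]
    infer_instance
  · rw [show (HC i).map (DerivedCategory.Q.map g) =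
      (DerivedCategory.homologyFunctorFactors C i).hom.app E ≫ homologyMap g i ≫
        (DerivedCategory.homologyFunctorFactors C i).inv.app F by
      rw [← DerivedCategory.homologyFunctorFactors_hom_naturality_assoc, Iso.hom_inv_id_app]
      exact (Category.comp_id _).symm]
    infer_instance

variable [P.IsClosedUnderIsomorphisms] [P.ContainsZero]
  (hsum : ∀ X Y : C, P X → P Y → P (X ⨯ Y))
  (hqs : PCoh.IsQuasiStableUnderKernels P) (hql : PCoh.IsQuasiLiftable P)

include hsum hqs hql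

theorem PCn.triangle₂ {n : ℤ} {T : Triangle (DerivedCategory C)}
    (hT : T ∈ distTriang (DerivedCategory C)) (h₁ : PCn P n T.obj₁) (h₃ : PCn P n T.obj₃) :
    PCn P n T.obj₂ :=
  PCn.of_triangle hsum hqs hql (inv_rot_of_distTriang _ hT)
    (T := T.invRotate) ((h₃.shift (-1)).mono (by lia)) h₁

theorem PCn.triangle₁ {n : ℤ} {T : Triangle (DerivedCategory C)}
    (hT : T ∈ distTriang (DerivedCategory C)) (h₂ : PCn P (n + 1) T.obj₂) (h₃ : PCn P n T.obj₃) :
    PCn P (n + 1) T.obj₁ :=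
  PCn.triangle₂ hsum hqs hql (inv_rot_of_distTriang _ hT)
    (T := T.invRotate) ((h₃.shift (-1)).mono (by lia)) h₂

/-- descending modifications over a pseudo-coherent complex -/
theorem exists_approx {n k : ℤ} (hk : n ≤ k) {G F : CochainComplex C ℤ} (g : G ⟶ F)
    (hG : PCoh.IsStrictPC P n G) (hF : PCn P n (DerivedCategory.Q.obj F)) (hg : NQis k g) :
    ∃ (G' : CochainComplex C ℤ) (v : G ⟶ G') (g' : G' ⟶ F), v ≫ g' = g ∧
      (∀ i : ℤ, Mono (v.f i)) ∧ (∀ i : ℤ, i < n ∨ k ≤ i → IsIso (v.f i)) ∧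
      PCoh.IsStrictPC P n G' ∧ NQis n g' ∧ (∀ i : ℤ, P (G.X i) → P (G'.X i)) := by
  obtain ⟨d, rfl⟩ : ∃ d : ℕ, k = n + d := ⟨(k - n).toNat, by lia⟩
  exact exists_descend hsum hql (fun m G g hm hG hg => ft_cone hsum hqs hql g
    (strict_mono (by lia) hG) (hF.mono hm) hg) d G g hG hg

/-- pseudo-coherence of the top cohomology -/
theorem pcn_iff_ft (n : ℤ) (F : DerivedCategory C) (hac : ∀ i, n < i → IsZero ((HC i).obj F)) :
    PCn P n F ↔ PCoh.IsOfFiniteType P ((HC n).obj F) := by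
  constructor
  · rintro ⟨E, hE, ⟨e⟩⟩
    exact ft_iso (repHomology e n) (ft_homology_of_strict E n hqs hE fun i hi =>
      (hac i hi).of_iso (repHomology e i))
  · intro h
    obtain ⟨E, ⟨e⟩⟩ := exists_rep F
    have hE : ∀ i, n + 1 ≤ i → IsZero (E.homology i) := fun i hi =>
      (hac i (by lia)).of_iso (repHomology e i)
    let z : (0 : CochainComplex C ℤ) ⟶ E := 0
    haveI : IsIso (homologyMap (mappingCone.inr z) n) := by
      haveI : Mono (homologyMap (mappingCone.inr z) n) :=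
        (cone_exact₂ z n).mono_g (((HomologicalComplex.homologyFunctor C _ n).map_isZero
          (isZero_zero _)).eq_of_src _ _)
      haveI : Epi (homologyMap (mappingCone.inr z) n) :=
        (cone_exact₃ z n (n + 1) rfl).epi_f (((HomologicalComplex.homologyFunctor C _ (n + 1)).map_isZero
          (isZero_zero _)).eq_of_tgt _ _)
      exact isIso_of_mono_of_epi _
    obtain ⟨G, v, g, -, -, hv, -, hg, X, hX, ⟨iX⟩⟩ := exists_step hql z (nqis_zero hE)
      (ft_iso ((repHomology e n).symm ≪≫ asIso (homologyMap (mappingCone.inr z) n)) h)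
    have hz : ∀ i, IsZero ((0 : CochainComplex C ℤ).X i) := fun i =>
      (HomologicalComplex.eval C (ComplexShape.up ℤ) i).map_isZero (isZero_zero _)
    obtain ⟨F', w, hF', hw⟩ := exists_strict_of_nqis g (P := P) ⟨⟨n, fun i hi => by
        haveI := hv i (by lia)
        exact (hz i).of_iso (asIso (v.f i)).symm⟩, fun i hi => by
        by_cases hin : i = n
        · subst hin
          exact P.prop_of_iso iX.symm (prop_biprod hsum (prop_isZero (hz i)) hX)
        · haveI := hv i hin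
          exact P.prop_of_iso (asIso (v.f i)) (prop_isZero (hz i))⟩ hg
    exact ⟨F', hF', ⟨asIso (DerivedCategory.Q.map w) ≪≫ e⟩⟩

/-- representatives bounded by the cohomology -/
theorem exists_rep_bound {n m : ℤ} (hnm : n < m) (F : DerivedCategory C) (hF : PCn P n F)
    (hac : ∀ i, m ≤ i → IsZero ((HC i).obj F)) :
    ∃ E : CochainComplex C ℤ, PCoh.IsStrictPC P n E ∧ (∀ i, m ≤ i → IsZero (E.X i)) ∧
      Nonempty (DerivedCategory.Q.obj E ≅ F) := by
  obtain ⟨E, ⟨e⟩⟩ := exists_rep F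
  obtain ⟨G, v, g, -, -, hv, hG, hg, -⟩ := exists_approx hsum hqs hql hnm.le
    (0 : (0 : CochainComplex C ℤ) ⟶ E) (strict_of_all all_zero n) (hF.of_iso e.symm)
    (nqis_zero fun i hi => (hac i hi).of_iso (repHomology e i))
  have hz : ∀ i, m ≤ i → IsZero (G.X i) := fun i hi => by
    haveI := hv i (Or.inr hi)
    exact ((HomologicalComplex.eval C (ComplexShape.up ℤ) i).map_isZero
      (isZero_zero (CochainComplex C ℤ))).of_iso (asIso (v.f i)).symm
  obtain ⟨E', v', u', -, hu', -, hv'⟩ := exists_factor_quasiIso g hg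
  refine ⟨E', ⟨⟨m, fun i hi => ?_⟩, fun i hi => ?_⟩, fun i hi => ?_,
    ⟨asIso (DerivedCategory.Q.map u') ≪≫ e⟩⟩
  · haveI := hv' i (by lia)
    exact (hz i (by lia)).of_iso (asIso (v'.f i)).symm
  · haveI := hv' i hi
    exact P.prop_of_iso (asIso (v'.f i)) (hG.2 i hi)
  · haveI := hv' i (by lia)
    exact (hz i hi).of_iso (asIso (v'.f i)).symm

omit hsum hqs hql in
lemma isZero_σGE_lt (E : CochainComplex C ℤ) (n i : ℤ) (h : i < n) : IsZero ((σGE E n).X i) :=
  isZero_σX E n i h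

omit hsum hqs hql in
/-- a bounded approximation -/
theorem exists_bounded_approx {n : ℤ} {F : DerivedCategory C} (h : PCn P n F) :
    ∃ (E : CochainComplex C ℤ) (a b : ℤ) (α : DerivedCategory.Q.obj E ⟶ F),
      (∀ i : ℤ, i < a ∨ b < i → IsZero (E.X i)) ∧ (∀ i : ℤ, P (E.X i)) ∧
      (∀ i : ℤ, n < i → IsIso ((HC i).map α)) ∧ Epi ((HC n).map α) := by
  obtain ⟨E, hE, ⟨e⟩⟩ := h
  obtain ⟨⟨b, hb⟩, hP⟩ := all_σGE hE
  refine ⟨σGE E n, n, b, DerivedCategory.Q.map (σι E n) ≫ e.hom,
    fun i hi => hi.elim (isZero_σGE_lt E n i) (hb i), hP, fun i hi => ?_, ?_⟩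
  · haveI := (isIso_map_Q_iff (σι E n) i).2 ((nqis_σι E n).isIso i hi)
    rw [Functor.map_comp]; infer_instance
  · haveI := (epi_map_Q_iff (σι E n) n).2 ((nqis_σι E n).epi n le_rfl)
    rw [Functor.map_comp]; infer_instance

omit hsum hqs hql in
/-- pseudo-coherence from an approximation -/
theorem pcn_of_approx {n : ℤ} {E : CochainComplex C ℤ} (hE : PCoh.IsStrictPC P n E)
    {F : DerivedCategory C} (α : DerivedCategory.Q.obj E ⟶ F)
    (hiso : ∀ i : ℤ, n < i → IsIso ((HC i).map α)) (hepi : Epi ((HC n).map α)) : PCn P n F := by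
  obtain ⟨F₀, ⟨e⟩⟩ := exists_rep F
  obtain ⟨X, g, s, hs, hg⟩ := DerivedCategory.left_fac (α ≫ e.inv)
  let f : F ≅ DerivedCategory.Q.obj X := e.symm ≪≫ asIso (DerivedCategory.Q.map s)
  have hf : DerivedCategory.Q.map g = α ≫ f.hom := by
    have := hg =≫ DerivedCategory.Q.map s
    simpa [f] using this.symm
  obtain ⟨F', w, hF', hw⟩ := exists_strict_of_nqis g hE (NQis.of_hyp (fun i hi => by
      haveI := hiso i hi
      rw [← isIso_map_Q_iff, hf, Functor.map_comp]
      infer_instance) (by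
      rw [← epi_map_Q_iff, hf, Functor.map_comp]
      infer_instance))
  exact ⟨F', hF', ⟨asIso (DerivedCategory.Q.map w) ≪≫ f.symm⟩⟩

/-- modification into a quasi-isomorphism, keeping degrees `≥ i` -/
theorem exists_factor_strict {n i : ℤ} {E F : CochainComplex C ℤ} (u : E ⟶ F)
    (hE : PCoh.IsStrictPC P n E) (hF : PCn P n (DerivedCategory.Q.obj F)) (hu : NQis i u) :
    ∃ (E' : CochainComplex C ℤ) (v : E ⟶ E') (u' : E' ⟶ F), v ≫ u' = u ∧
      PCoh.IsStrictPC P n E' ∧ QuasiIso u' ∧ (∀ j : ℤ, Mono (v.f j)) ∧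
      (∀ j : ℤ, i ≤ j → IsIso (v.f j)) := by
  obtain ⟨G, v₁, g, h₁, hm₁, hi₁, hG, hg⟩ : ∃ (G : CochainComplex C ℤ) (v : E ⟶ G) (g : G ⟶ F),
      v ≫ g = u ∧ (∀ j : ℤ, Mono (v.f j)) ∧ (∀ j : ℤ, i ≤ j → IsIso (v.f j)) ∧
      PCoh.IsStrictPC P n G ∧ NQis (min n i) g := by
    rcases le_total n i with h | h
    · obtain ⟨G, v, g, h₁, h₂, h₃, h₄, h₅, -⟩ := exists_approx hsum hqs hql h u hE hF hu
      exact ⟨G, v, g, h₁, h₂, fun j hj => h₃ j (Or.inr hj), h₄, by rwa [min_eq_left h]⟩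
    · exact ⟨E, 𝟙 E, u, Category.id_comp _,
        fun _ => by rw [HomologicalComplex.id_f]; infer_instance,
        fun _ _ => by rw [HomologicalComplex.id_f]; infer_instance, hE, by rwa [min_eq_right h]⟩
  obtain ⟨E', v₂, u', h₂, hu', hm₂, hi₂⟩ := exists_factor_quasiIso g hg
  refine ⟨E', v₁ ≫ v₂, u', by rw [Category.assoc, h₂, h₁], ⟨?_, fun j hj => ?_⟩, hu',
    fun j => ?_, fun j hj => ?_⟩
  · obtain ⟨⟨b, hb⟩, -⟩ := hG
    refine ⟨max b (min n i), fun j hj => ?_⟩
    haveI := hi₂ j (by lia)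
    exact (hb j (by lia)).of_iso (asIso (v₂.f j)).symm
  · haveI := hi₂ j (by lia)
    exact P.prop_of_iso (asIso (v₂.f j)) (hG.2 j hj)
  · haveI := hm₁ j; haveI := hm₂ j
    rw [HomologicalComplex.comp_f]; infer_instance
  · haveI := hi₁ j hj; haveI := hi₂ j (by lia)
    rw [HomologicalComplex.comp_f]; infer_instance

end Groth.Agent.PCohLib
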