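import Groth.Agent.PCohLib.Step
import Mathlib.Algebra.Homology.DerivedCategory.Fractions

/-!
# Pseudo-coherence in the derived category
-/

set_option autoImplicit false
set_option linter.unusedSectionVars false
set_option backward.isDefEq.respectTransparency false
set_option linter.style.haveILetI false

universe w v u

open CategoryTheory Limits HomologicalComplex CochainComplex Pretriangulated ZeroObject
open Groth.Agent.CohDerRes

namespace Groth.Agent.PCohLib

variable {C : Type u} [Category.{v} C] [Abelian C]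

/-! ### brutal truncation -/

section Sigma

variable (E : CochainComplex C ℤ) (n : ℤ)

/-- terms of the brutal truncation -/
noncomputable def σX (i : ℤ) : C := if n ≤ i then E.X i else 0

/-- identification with the original term -/
noncomputable def σXIso (i : ℤ) (h : n ≤ i) : σX E n i ≅ E.X i := eqToIso (if_pos h)

lemma isZero_σX (i : ℤ) (h : i < n) : IsZero (σX E n i) := by
  rw [σX, if_neg (not_le.2 h)]; exact isZero_zero _

/-- the brutal truncation in degrees `≥ n` -/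
noncomputable def σGE : CochainComplex C ℤ :=
  CochainComplex.of (σX E n)
    (fun i => if h : n ≤ i then (σXIso E n i h).hom ≫ E.d i (i + 1) ≫ (σXIso E n (i + 1) (by lia)).inv else 0)
    fun i => by
      by_cases h : n ≤ i
      · simp [dif_pos h, dif_pos (show n ≤ i + 1 by lia)]
      · simp [dif_neg h]

/-- its inclusion -/
noncomputable def σι : σGE E n ⟶ E where
  f i := if h : n ≤ i then (σXIso E n i h).hom else 0
  comm' i j h := by
    obtain rfl : i + 1 = j := h
    by_cases hi : n ≤ i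
    · simp [σGE, dif_pos hi, dif_pos (show n ≤ i + 1 by lia)]
    · exact (isZero_σX E n i (not_le.1 hi)).eq_of_src _ _

lemma isIso_σι_f (i : ℤ) (h : n ≤ i) : IsIso ((σι E n).f i) := by
  change IsIso (if h : n ≤ i then (σXIso E n i h).hom else 0)
  rw [dif_pos h]; infer_instance

lemma nqis_of_isIso_f {K L : CochainComplex C ℤ} (f : K ⟶ L) (n : ℤ)
    (h : ∀ i, n ≤ i → IsIso (f.f i)) : NQis n f where
  epi i hi := by
    rw [epi_homologyMap_iff_up_to_refinements f (i - 1) i (i + 1) (by simp) (by simp)]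
    intro T y hy
    haveI := h i hi
    haveI := h (i + 1) (by lia)
    refine ⟨T, 𝟙 T, inferInstance, y ≫ inv (f.f i), ?_, 0, by simp⟩
    rw [← cancel_mono (f.f (i + 1)), Category.assoc, Category.assoc, ← f.comm,
      IsIso.inv_hom_id_assoc, hy, zero_comp]
  mono i hi := by
    rw [mono_homologyMap_iff_up_to_refinements f (i - 1) i (i + 1) (by simp) (by simp)]
    intro T x hx y hy
    haveI := h i hi.le
    haveI := h (i - 1) (by lia)
    refine ⟨T, 𝟙 T, inferInstance, y ≫ inv (f.f (i - 1)), ?_⟩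
    rw [← cancel_mono (f.f i), Category.assoc, Category.assoc, Category.assoc, ← f.comm,
      IsIso.inv_hom_id_assoc, Category.id_comp, hy]

lemma nqis_σι : NQis n (σι E n) := nqis_of_isIso_f _ n fun i hi => isIso_σι_f E n i hi

end Sigma

variable {P : ObjectProperty C}

lemma strict_mono {n m : ℤ} (h : n ≤ m) {E : CochainComplex C ℤ} (hE : PCoh.IsStrictPC P n E) :
    PCoh.IsStrictPC P m E := ⟨hE.1, fun i hi => hE.2 i (h.trans hi)⟩

lemma strict_of_all {E : CochainComplex C ℤ} (hE : PCoh.IsStrictPCAll P E) (n : ℤ) :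
    PCoh.IsStrictPC P n E := ⟨hE.1, fun i _ => hE.2 i⟩

variable [P.IsClosedUnderIsomorphisms] [P.ContainsZero]

lemma all_σGE {n : ℤ} {E : CochainComplex C ℤ} (hE : PCoh.IsStrictPC P n E) :
    PCoh.IsStrictPCAll P (σGE E n) := by
  obtain ⟨⟨b, hb⟩, hP⟩ := hE
  refine ⟨⟨b, fun i hi => ?_⟩, fun i => ?_⟩
  · by_cases h : n ≤ i
    · exact (hb i hi).of_iso (σXIso E n i h)
    · exact isZero_σX E n i (not_le.1 h)
  · by_cases h : n ≤ i
    · exact P.prop_of_iso (σXIso E n i h).symm (hP i h)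
    · exact prop_isZero (isZero_σX E n i (not_le.1 h))

lemma all_zero : PCoh.IsStrictPCAll P (0 : CochainComplex C ℤ) := by
  have h : ∀ i, IsZero ((0 : CochainComplex C ℤ).X i) := fun i =>
    (HomologicalComplex.eval C (ComplexShape.up ℤ) i).map_isZero (isZero_zero _)
  exact ⟨⟨0, fun i _ => h i⟩, fun i => prop_isZero (h i)⟩

lemma strict_cone (hsum : ∀ X Y : C, P X → P Y → P (X ⨯ Y)) {n : ℤ} {E F : CochainComplex C ℤ}
    (u : E ⟶ F) (hE : PCoh.IsStrictPC P (n + 1) E) (hF : PCoh.IsStrictPC P n F) :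
    PCoh.IsStrictPC P n (mappingCone u) := by
  obtain ⟨⟨a, ha⟩, hPa⟩ := hE
  obtain ⟨⟨b, hb⟩, hPb⟩ := hF
  refine ⟨⟨max a b, fun i hi => ?_⟩, fun i hi => ?_⟩
  · exact isZero_mappingCone_X u i (ha _ (by lia)) (hb i (by lia))
  · exact P.prop_of_iso (homotopyCofiber.XIsoBiprod u i (i + 1) rfl).symm
      (prop_biprod hsum (hPa _ (by lia)) (hPb i hi))

/-- successive modifications of a complex over `F` -/
theorem exists_descend (hsum : ∀ X Y : C, P X → P Y → P (X ⨯ Y)) (hql : PCoh.IsQuasiLiftable P)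
    {F : CochainComplex C ℤ} {n : ℤ}
    (hc : ∀ (m : ℤ) (G : CochainComplex C ℤ) (g : G ⟶ F), n ≤ m → PCoh.IsStrictPC P n G →
      NQis (m + 1) g → PCoh.IsOfFiniteType P ((mappingCone g).homology m))
    (d : ℕ) : ∀ (G : CochainComplex C ℤ) (g : G ⟶ F), PCoh.IsStrictPC P n G → NQis (n + d) g →
      ∃ (G' : CochainComplex C ℤ) (v : G ⟶ G') (g' : G' ⟶ F), v ≫ g' = g ∧
        (∀ i : ℤ, Mono (v.f i)) ∧ (∀ i : ℤ, i < n ∨ n + d ≤ i → IsIso (v.f i)) ∧
        PCoh.IsStrictPC P n G' ∧ NQis n g' ∧ (∀ i : ℤ, P (G.X i) → P (G'.X i)) := by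
  induction d with
  | zero =>
    intro G g hG hg
    exact ⟨G, 𝟙 G, g, Category.id_comp _, fun i => by rw [HomologicalComplex.id_f]; infer_instance,
      fun i _ => by rw [HomologicalComplex.id_f]; infer_instance, hG, by simpa using hg,
      fun _ h => h⟩
  | succ d ih =>
    intro G g hG hg
    have hg' : NQis (n + d + 1) g := by simpa [add_assoc] using hg
    obtain ⟨G₁, v₁, g₁, h₁, hm₁, hi₁, -, hq₁, X, hX, ⟨e⟩⟩ :=
      exists_step hql g hg' (hc _ G g (by lia) hG hg')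
    have hP₁ : ∀ i : ℤ, P (G.X i) → P (G₁.X i) := fun i h => by
      by_cases hin : i = n + d
      · subst hin
        exact P.prop_of_iso e.symm (prop_biprod hsum h hX)
      · haveI := hi₁ i hin
        exact P.prop_of_iso (asIso (v₁.f i)) h
    have hG₁ : PCoh.IsStrictPC P n G₁ := by
      obtain ⟨⟨b, hb⟩, hP⟩ := hG
      refine ⟨⟨max b (n + d), fun i hi => ?_⟩, fun i hi => hP₁ i (hP i hi)⟩
      haveI := hi₁ i (by lia)
      exact (hb i (by lia)).of_iso (asIso (v₁.f i)).symm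
    obtain ⟨G₂, v₂, g₂, h₂, hm₂, hi₂, hG₂, hq₂, hP₂⟩ := ih G₁ g₁ hG₁ hq₁
    refine ⟨G₂, v₁ ≫ v₂, g₂, by rw [Category.assoc, h₂, h₁], fun i => ?_, fun i hi => ?_, hG₂, hq₂,
      fun i h => hP₂ i (hP₁ i h)⟩
    · haveI := hm₁ i; haveI := hm₂ i
      rw [HomologicalComplex.comp_f]; infer_instance
    · haveI := hi₁ i (by lia); haveI := hi₂ i (by lia)
      rw [HomologicalComplex.comp_f]; infer_instance

/-- a complex receiving an `n`-quasi-isomorphism from a complex with terms in `P` -/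
theorem exists_strict_of_nqis {n : ℤ} {G F : CochainComplex C ℤ} (g : G ⟶ F)
    (hG : PCoh.IsStrictPC P n G) (hg : NQis n g) :
    ∃ (F' : CochainComplex C ℤ) (v : F' ⟶ F), PCoh.IsStrictPC P n F' ∧ QuasiIso v := by
  obtain ⟨F', v, u, -, hu, -, hv⟩ := exists_factor_quasiIso g hg
  obtain ⟨⟨b, hb⟩, hP⟩ := hG
  refine ⟨F', u, ⟨⟨max b n, fun i hi => ?_⟩, fun i hi => ?_⟩, hu⟩
  · haveI := hv i (by lia)
    exact (hb i (by lia)).of_iso (asIso (v.f i)).symm
  · haveI := hv i hi
    exact P.prop_of_iso (asIso (v.f i)) (hP i hi)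

lemma nqis_zero {F : CochainComplex C ℤ} {k : ℤ} (h : ∀ i, k ≤ i → IsZero (F.homology i)) :
    NQis k (0 : (0 : CochainComplex C ℤ) ⟶ F) where
  epi i hi := ⟨fun _ _ _ => (h i hi).eq_of_src _ _⟩
  mono i _ := ⟨fun _ _ _ => ((HomologicalComplex.homologyFunctor C (ComplexShape.up ℤ) i).map_isZero
    (isZero_zero _)).eq_of_tgt _ _⟩

section Qis

attribute [local instance] HasDerivedCategory.standard

lemma quasiIso_coneMap {G E F : CochainComplex C ℤ} (g : G ⟶ E) (u : E ⟶ F) [QuasiIso u] :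
    QuasiIso (mappingCone.map g (g ≫ u) (𝟙 G) u (by simp)) := by
  rw [← DerivedCategory.isIso_Q_map_iff_quasiIso C]
  refine isIso₃_of_isIso₁₂ ((DerivedCategory.Q (C := C)).mapTriangle.map
    (mappingCone.triangleMap g (g ≫ u) (𝟙 G) u (by simp)))
    (DerivedCategory.mappingCone_triangle_distinguished _)
    (DerivedCategory.mappingCone_triangle_distinguished _) ?_ ?_
  · exact inferInstanceAs (IsIso (DerivedCategory.Q.map (𝟙 G)))
  · exact inferInstanceAs (IsIso (DerivedCategory.Q.map u))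

/-- strict pseudo-coherence ascends along quasi-isomorphisms -/
theorem exists_strict_qis (hsum : ∀ X Y : C, P X → P Y → P (X ⨯ Y))
    (hqs : PCoh.IsQuasiStableUnderKernels P) (hql : PCoh.IsQuasiLiftable P) {n : ℤ}
    {E F : CochainComplex C ℤ} (hF : PCoh.IsStrictPC P n F) (u : E ⟶ F) [QuasiIso u] :
    ∃ (F' : CochainComplex C ℤ) (v : F' ⟶ E), PCoh.IsStrictPC P n F' ∧ QuasiIso v := by
  obtain ⟨b, hb⟩ := hF.1
  obtain ⟨G, -, g, -, -, -, hG, hg, -⟩ := exists_descend hsum hql (F := E) (n := n)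
    (fun m G g hm hG hg => by
      haveI := quasiIso_coneMap g u
      refine ft_iso (asIso (homologyMap (mappingCone.map g (g ≫ u) (𝟙 G) u (by simp)) m)).symm
        (ft_homology_of_strict _ m hqs (strict_cone hsum _ (strict_mono (by lia) hG) (strict_mono hm hF))
          fun i hi => (nqis_iff (g ≫ u) (m + 1)).1 (hg.comp (NQis.of_quasiIso _ u)) i hi))
    (b + 1 - n).toNat _ (0 : (0 : CochainComplex C ℤ) ⟶ E) (strict_of_all all_zero n) (nqis_zero fun i hi =>
      (ShortComplex.isZero_homology_of_isZero_X₂ _ (hb i (by lia))).of_iso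
        (asIso (homologyMap u i)))
  exact exists_strict_of_nqis g hG hg

end Qis

/-! ### in the derived category -/

variable [HasDerivedCategory.{w} C]

/-- `n`-pseudo-coherence in the derived category -/
def PCn (P : ObjectProperty C) (n : ℤ) (F : DerivedCategory C) : Prop :=
  ∃ E : CochainComplex C ℤ, PCoh.IsStrictPC P n E ∧ Nonempty (DerivedCategory.Q.obj E ≅ F)

omit [P.IsClosedUnderIsomorphisms] [P.ContainsZero] in
lemma PCn.of_iso {n : ℤ} {F F' : DerivedCategory C} (e : F ≅ F') : PCn P n F → PCn P n F' :=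
  fun ⟨E, hE, ⟨f⟩⟩ => ⟨E, hE, ⟨f ≪≫ e⟩⟩

omit [P.IsClosedUnderIsomorphisms] [P.ContainsZero] in
lemma PCn.mono {n m : ℤ} (h : n ≤ m) {F : DerivedCategory C} : PCn P n F → PCn P m F :=
  fun ⟨E, hE, hf⟩ => ⟨E, strict_mono h hE, hf⟩

omit [P.IsClosedUnderIsomorphisms] [P.ContainsZero] in
lemma pcn_Q {n : ℤ} {E : CochainComplex C ℤ} (hE : PCoh.IsStrictPC P n E) :
    PCn P n (DerivedCategory.Q.obj E) := ⟨E, hE, ⟨Iso.refl _⟩⟩

variable (hsum : ∀ X Y : C, P X → P Y → P (X ⨯ Y))
  (hqs : PCoh.IsQuasiStableUnderKernels P) (hql : PCoh.IsQuasiLiftable P)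

include hsum hqs hql

/-- every representative receives a quasi-isomorphism from a strict one -/
theorem PCn.exists_qis {n : ℤ} {F : CochainComplex C ℤ} (h : PCn P n (DerivedCategory.Q.obj F)) :
    ∃ (F' : CochainComplex C ℤ) (v : F' ⟶ F), PCoh.IsStrictPC P n F' ∧ QuasiIso v := by
  obtain ⟨F₀, hF₀, ⟨α⟩⟩ := h
  obtain ⟨X, s, hs, g, hg⟩ := DerivedCategory.right_fac α.inv
  haveI : QuasiIso s := (DerivedCategory.isIso_Q_map_iff_quasiIso C s).1 hs
  haveI : QuasiIso g := (DerivedCategory.isIso_Q_map_iff_quasiIso C g).1 (by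
    rw [show DerivedCategory.Q.map g = DerivedCategory.Q.map s ≫ α.inv by
      rw [hg, IsIso.hom_inv_id_assoc]]
    infer_instance)
  obtain ⟨F', w', hF', hw⟩ := exists_strict_qis hsum hqs hql hF₀ g
  exact ⟨F', w' ≫ s, hF', inferInstance⟩

/-- two out of three -/
theorem PCn.of_triangle {n : ℤ} {T : Triangle (DerivedCategory C)}
    (hT : T ∈ distTriang (DerivedCategory C)) (h₁ : PCn P (n + 1) T.obj₁) (h₂ : PCn P n T.obj₂) :
    PCn P n T.obj₃ := by
  obtain ⟨E₁, hE₁, ⟨e₁⟩⟩ := h₁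
  obtain ⟨E₂, hE₂, ⟨e₂⟩⟩ := h₂
  obtain ⟨X, s, hs, g, hg⟩ := DerivedCategory.right_fac (e₁.hom ≫ T.mor₁ ≫ e₂.inv)
  haveI : QuasiIso s := (DerivedCategory.isIso_Q_map_iff_quasiIso C s).1 hs
  obtain ⟨E₁', w₁, hE₁', hw⟩ := exists_strict_qis hsum hqs hql hE₁ s
  haveI := hw
  let e : DerivedCategory.Q.obj E₁' ≅ T.obj₁ :=
    asIso (DerivedCategory.Q.map (w₁ ≫ s)) ≪≫ e₁
  refine ⟨_, strict_cone hsum (w₁ ≫ g) hE₁' hE₂, ⟨Triangle.π₃.mapIso
    (isoTriangleOfIso₁₂ _ T (DerivedCategory.mappingCone_triangle_distinguished (w₁ ≫ g)) hT e e₂ ?_)⟩⟩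
  show DerivedCategory.Q.map (w₁ ≫ g) ≫ e₂.hom = e.hom ≫ T.mor₁
  have : DerivedCategory.Q.map g = DerivedCategory.Q.map s ≫ e₁.hom ≫ T.mor₁ ≫ e₂.inv := by
    rw [hg, IsIso.hom_inv_id_assoc]
  simp [e, this]

/-- the obstruction is of finite type -/
theorem ft_cone {n : ℤ} {G F : CochainComplex C ℤ} (g : G ⟶ F)
    (hG : PCoh.IsStrictPC P (n + 1) G) (hF : PCn P n (DerivedCategory.Q.obj F))
    (hg : NQis (n + 1) g) : PCoh.IsOfFiniteType P ((mappingCone g).homology n) := by
  obtain ⟨E, hE, ⟨e⟩⟩ := PCn.of_triangle hsum hqs hql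
    (DerivedCategory.mappingCone_triangle_distinguished g) (pcn_Q hG) hF
  have he : ∀ i, E.homology i ≅ (mappingCone g).homology i := fun i =>
    ((DerivedCategory.homologyFunctorFactors C i).app E).symm ≪≫
      (DerivedCategory.homologyFunctor C i).mapIso e ≪≫
      (DerivedCategory.homologyFunctorFactors C i).app (mappingCone g)
  exact ft_iso (he n) (ft_homology_of_strict E n hqs hE fun i hi =>
    ((nqis_iff g (n + 1)).1 hg i hi).of_iso (he i))

end Groth.Agent.PCohLib
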