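import Groth.Agent.PCohLib.Criteria
import Mathlib.Algebra.Homology.DerivedCategory.TStructure
import Mathlib.Algebra.Homology.DerivedCategory.SingleTriangle
import Mathlib.Algebra.Homology.Embedding.ExtendHomology
import Mathlib.Algebra.Homology.DerivedCategory.ShortExact

/-!
# Pseudo-coherence in the derived category: dévissage
-/

set_option autoImplicit false
set_option linter.unusedSectionVars false
set_option backward.isDefEq.respectTransparency false
set_option linter.style.haveILetI false

universe w w' v v' u u'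

open CategoryTheory Limits HomologicalComplex CochainComplex Pretriangulated ZeroObject

namespace Groth.Agent.PCohLib

variable {C : Type u} [Category.{v} C] [Abelian C] [HasDerivedCategory.{w} C]

local notation "HC" => DerivedCategory.homologyFunctor C

/-- homology of a shift -/
noncomputable def shiftHomologyIso (F : DerivedCategory C) (k i j : ℤ) (h : k + i = j) :
    (HC i).obj (F⟦k⟧) ≅ (HC j).obj F :=
  ((DerivedCategory.homologyFunctor C 0).shiftIso k i j h).app F

/-- single objects in degree `i` as shifts -/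
noncomputable def singleShiftIso (X : C) (i : ℤ) :
    ((DerivedCategory.singleFunctor C 0).obj X)⟦-i⟧ ≅ (DerivedCategory.singleFunctor C i).obj X :=
  ((DerivedCategory.singleFunctors C).shiftIso (-i) i 0 (by lia)).app X

/-- homology of a single object -/
noncomputable def singleHomologyIso (X : C) (i : ℤ) :
    (HC i).obj ((DerivedCategory.singleFunctor C i).obj X) ≅ X :=
  (DerivedCategory.homologyFunctorFactors C i).app _ ≪≫
    singleObjHomologySelfIso (ComplexShape.up ℤ) i X

lemma isZero_single_homology (X : C) (i j : ℤ) (h : j ≠ i) :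
    IsZero ((HC j).obj ((DerivedCategory.singleFunctor C i).obj X)) :=
  (isZero_single_obj_homology (ComplexShape.up ℤ) i X j h).of_iso
    ((DerivedCategory.homologyFunctorFactors C j).app _)

variable {P : ObjectProperty C}

lemma PCn.single {n i : ℤ} {X : C} (h : PCn P (n - i) ((DerivedCategory.singleFunctor C 0).obj X)) :
    PCn P n ((DerivedCategory.singleFunctor C i).obj X) :=
  ((h.shift (-i)).of_iso (singleShiftIso X i)).mono (by lia)

variable [P.IsClosedUnderIsomorphisms] [P.ContainsZero]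

lemma pcn_single_of_prop {X : C} (hX : P X) (n : ℤ) :
    PCn P n ((DerivedCategory.singleFunctor C 0).obj X) := by
  refine ⟨(HomologicalComplex.single C (ComplexShape.up ℤ) 0).obj X, ⟨⟨0, fun i hi =>
    isZero_single_obj_X (ComplexShape.up ℤ) 0 X i (by lia)⟩, fun i _ => ?_⟩, ⟨Iso.refl _⟩⟩
  by_cases h : i = 0
  · subst h
    exact P.prop_of_iso (singleObjXSelf (ComplexShape.up ℤ) 0 X).symm hX
  · exact prop_isZero (isZero_single_obj_X (ComplexShape.up ℤ) 0 X i h)

/-- the quotient by the top terms -/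
noncomputable def σSeq (E : CochainComplex C ℤ) (n : ℤ) : ShortComplex (CochainComplex C ℤ) :=
  ShortComplex.mk (σι E n) (cokernel.π (σι E n)) (cokernel.condition _)

lemma σSeq_shortExact (E : CochainComplex C ℤ) (n : ℤ) : (σSeq E n).ShortExact := by
  haveI : Mono (σι E n) := HomologicalComplex.mono_of_mono_f _ fun i => by
    by_cases h : n ≤ i
    · haveI := isIso_σι_f E n i h; infer_instance
    · exact ⟨fun _ _ _ => (isZero_σGE_lt E n i (not_le.1 h)).eq_of_tgt _ _⟩
  exact { exact := ShortComplex.exact_cokernel (σι E n)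
          mono_f := inferInstanceAs (Mono (σι E n))
          epi_g := inferInstanceAs (Epi (cokernel.π (σι E n))) }

lemma isZero_σQuot (E : CochainComplex C ℤ) (n i : ℤ) (h : n ≤ i) :
    IsZero ((σSeq E n).X₃.X i) := by
  haveI := isIso_σι_f E n i h
  exact ((σSeq_shortExact E n).map_of_exact (HomologicalComplex.eval _ _ i)).isIso_f_iff.1
    (show IsIso ((σι E n).f i) from inferInstance)

/-- identification of the quotient below `n` -/
noncomputable def σQuotIso (E : CochainComplex C ℤ) (n i : ℤ) (h : i < n) :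
    E.X i ≅ (σSeq E n).X₃.X i :=
  haveI : IsIso ((σSeq E n).g.f i) :=
    ((σSeq_shortExact E n).map_of_exact (HomologicalComplex.eval _ _ i)).isIso_g_iff.2
      (isZero_σGE_lt E n i h)
  asIso ((σSeq E n).g.f i)

lemma σGE_iso_single (E : CochainComplex C ℤ) (k : ℤ) (hb : ∀ i, k < i → IsZero (E.X i)) :
    Nonempty (DerivedCategory.Q.obj (σGE E k) ≅ (DerivedCategory.singleFunctor C k).obj (E.X k)) := by
  haveI : (σGE E k).IsStrictlyGE k := (isStrictlyGE_iff _ _).2 fun i hi => isZero_σGE_lt E k i hi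
  haveI : (σGE E k).IsStrictlyLE k := (isStrictlyLE_iff _ _).2 fun i hi =>
    haveI := isIso_σι_f E k i hi.le
    (hb i hi).of_iso (asIso ((σι E k).f i))
  obtain ⟨M, ⟨e⟩⟩ := (σGE E k).exists_iso_single k
  haveI := isIso_σι_f E k k le_rfl
  let eM : M ≅ E.X k := (singleObjXSelf (ComplexShape.up ℤ) k M).symm ≪≫
    ((HomologicalComplex.eval C (ComplexShape.up ℤ) k).mapIso e).symm ≪≫ asIso ((σι E k).f k)
  exact ⟨DerivedCategory.Q.mapIso e ≪≫ (DerivedCategory.singleFunctor C k).mapIso eM⟩

variable (hsum : ∀ X Y : C, P X → P Y → P (X ⨯ Y))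
  (hqs : PCoh.IsQuasiStableUnderKernels P) (hql : PCoh.IsQuasiLiftable P)

include hsum hqs hql

lemma pcn_of_isZero {n : ℤ} {F : DerivedCategory C}
    (h : ∀ i, n ≤ i → IsZero ((HC i).obj F)) : PCn P n F :=
  (pcn_iff_ft hsum hqs hql n F fun i hi => h i hi.le).2 (ft_isZero (h n le_rfl))

/-- sums and direct summands -/
theorem pcn_biprod_iff (n : ℤ) (F' F'' : DerivedCategory C) [HasBinaryBiproduct F' F''] :
    PCn P n (F' ⊞ F'') ↔ PCn P n F' ∧ PCn P n F'' := by
  constructor
  · intro h
    obtain ⟨E, ⟨⟨b, hb⟩, -⟩, ⟨e⟩⟩ := id h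
    have hF : ∀ i, b < i → IsZero ((HC i).obj (F' ⊞ F'')) := fun i hi =>
      (ShortComplex.isZero_homology_of_isZero_X₂ _ (hb i hi)).of_iso (repHomology e i).symm
    suffices ∀ (d : ℕ) (k : ℤ), n ≤ k → b + 1 - d ≤ k → PCn P k F' ∧ PCn P k F'' from
      this (b + 1 - n).toNat n le_rfl (by lia)
    intro d
    induction d with
    | zero =>
      refine fun k _ hk => ⟨pcn_of_isZero hsum hqs hql fun i hi => ?_,
        pcn_of_isZero hsum hqs hql fun i hi => ?_⟩
      · rw [IsZero.iff_id_eq_zero, ← (HC i).map_id, ← biprod.inl_fst (X := F') (Y := F''),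
          Functor.map_comp, (hF i (by lia)).eq_of_tgt ((HC i).map biprod.inl) 0, zero_comp]
      · rw [IsZero.iff_id_eq_zero, ← (HC i).map_id, ← biprod.inr_snd (X := F') (Y := F''),
          Functor.map_comp, (hF i (by lia)).eq_of_tgt ((HC i).map biprod.inr) 0, zero_comp]
    | succ d ih =>
      intro k hnk hk
      obtain ⟨h₁, h₂⟩ := ih (k + 1) (by lia) (by lia)
      haveI : HasBinaryBiproduct F'' F' := inferInstance
      exact ⟨PCn.of_triangle hsum hqs hql (binaryBiproductTriangle_distinguished F'' F') h₂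
          ((h.mono hnk).of_iso (biprod.braiding F' F'')),
        PCn.of_triangle hsum hqs hql (binaryBiproductTriangle_distinguished F' F'') h₁ (h.mono hnk)⟩
  · rintro ⟨h₁, h₂⟩
    exact PCn.triangle₂ hsum hqs hql (binaryBiproductTriangle_distinguished F' F'') h₁ h₂

/-- bounded above complexes of pseudo-coherent terms -/
theorem pcn_of_terms (n : ℤ) (d : ℕ) : ∀ (F : CochainComplex C ℤ),
    (∀ i : ℤ, n + d ≤ i → IsZero (F.X i)) →
    (∀ i : ℤ, n ≤ i → PCn P (n - i) ((DerivedCategory.singleFunctor C 0).obj (F.X i))) →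
    PCn P n (DerivedCategory.Q.obj F) := by
  induction d with
  | zero =>
    intro F hF _
    exact pcn_Q ⟨⟨n, fun i hi => hF i (by lia)⟩, fun i hi => prop_isZero (hF i (by lia))⟩
  | succ d ih =>
    intro F hF hP
    refine PCn.triangle₂ hsum hqs hql
      (DerivedCategory.triangleOfSES_distinguished (σSeq_shortExact F (n + d))) ?_ ?_
    · obtain ⟨e⟩ := σGE_iso_single F (n + d) fun i hi => hF i (by lia)
      exact (PCn.single (hP _ (by lia))).of_iso e.symm
    · refine ih _ (fun i hi => isZero_σQuot F (n + d) i hi) fun i hi => ?_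
      by_cases h : i < n + d
      · exact (hP i hi).of_iso ((DerivedCategory.singleFunctor C 0).mapIso (σQuotIso F (n + d) i h))
      · exact pcn_of_isZero hsum hqs hql fun j _ => Functor.map_isZero _
          (Functor.map_isZero _ (isZero_σQuot F (n + d) i (not_lt.1 h)))

theorem pcn_of_terms' (n b : ℤ) (F : CochainComplex C ℤ) (hF : ∀ i : ℤ, b < i → IsZero (F.X i))
    (hP : ∀ i : ℤ, n ≤ i → PCn P (n - i) ((DerivedCategory.singleFunctor C 0).obj (F.X i))) :
    PCn P n (DerivedCategory.Q.obj F) :=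
  pcn_of_terms hsum hqs hql n (b + 1 - n).toNat F (fun i hi => hF i (by lia)) hP

/-- pseudo-coherence from cohomology objects -/
theorem pcn_of_homology (n : ℤ) (d : ℕ) : ∀ (F : DerivedCategory C),
    (∀ i : ℤ, n + d ≤ i → IsZero ((HC i).obj F)) →
    (∀ i : ℤ, n ≤ i → PCn P (n - i) ((DerivedCategory.singleFunctor C 0).obj ((HC i).obj F))) →
    PCn P n F := by
  induction d with
  | zero => exact fun F hF _ => pcn_of_isZero hsum hqs hql fun i hi => hF i (by lia)
  | succ d ih =>
    intro F hF hP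
    obtain ⟨K, ⟨e⟩⟩ := exists_rep F
    let E := K.truncLE (n + d - 1)
    let ι : E ⟶ K := K.ιTruncLE (n + d - 1)
    have hι : ∀ i, i ≤ n + d - 1 → IsIso (homologyMap ι i) := fun i hi =>
      (quasiIsoAt_iff_isIso_homologyMap ι i).1 (quasiIsoAt_ιTruncLE K (n + d - 1) i hi)
    have hEz : ∀ i, n + d ≤ i → IsZero (E.homology i) := fun i hi =>
      ShortComplex.isZero_homology_of_isZero_X₂ _
        (CochainComplex.isZero_of_isStrictlyLE E (n + d - 1) i (by lia))
    have hT := DerivedCategory.mappingCone_triangle_distinguished ι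
    have hz : ∀ i, i ≠ n + d → IsZero ((mappingCone ι).homology i) := fun i hi => by
      rcases lt_or_gt_of_ne hi with h | h
      · haveI := hι i (by lia)
        haveI : Mono (homologyMap ι (i + 1)) := by
          by_cases h' : i + 1 ≤ n + d - 1
          · haveI := hι (i + 1) h'; infer_instance
          · exact ⟨fun _ _ _ => (hEz (i + 1) (by lia)).eq_of_tgt _ _⟩
        exact (cone_exact₃ ι i (i + 1) rfl).isZero_of_both_zeros
          ((cancel_epi (homologyMap ι i)).1 (by rw [cone_zero₂, comp_zero]))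
          ((cancel_mono (homologyMap ι (i + 1))).1 (by rw [cone_zero₁, zero_comp]))
      · exact (cone_exact₃ ι i (i + 1) rfl).isZero_of_both_zeros
          (((hF i (by lia)).of_iso (repHomology e i)).eq_of_src _ _)
          ((hEz (i + 1) (by lia)).eq_of_tgt _ _)
    haveI : IsIso (homologyMap (mappingCone.inr ι) (n + d)) := by
      haveI : Mono (homologyMap (mappingCone.inr ι) (n + d)) :=
        (cone_exact₂ ι (n + d)).mono_g ((hEz (n + d) le_rfl).eq_of_src _ _)
      haveI : Epi (homologyMap (mappingCone.inr ι) (n + d)) :=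
        (cone_exact₃ ι (n + d) (n + d + 1) rfl).epi_f ((hEz (n + d + 1) (by lia)).eq_of_tgt _ _)
      exact isIso_of_mono_of_epi _
    let L : DerivedCategory C := DerivedCategory.Q.obj (mappingCone ι)
    haveI : L.IsGE (n + d) := (DerivedCategory.isGE_iff L _).2 fun i hi =>
      (hz i (by lia)).of_iso ((DerivedCategory.homologyFunctorFactors C i).app _)
    haveI : L.IsLE (n + d) := (DerivedCategory.isLE_iff L _).2 fun i hi =>
      (hz i (by lia)).of_iso ((DerivedCategory.homologyFunctorFactors C i).app _)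
    obtain ⟨Y, ⟨eY⟩⟩ := DerivedCategory.exists_iso_singleFunctor_obj_of_isGE_of_isLE L (n + d)
    let eH : (HC (n + d)).obj F ≅ Y := (repHomology e (n + d)).symm ≪≫
      asIso (homologyMap (mappingCone.inr ι) (n + d)) ≪≫ repHomology eY (n + d) ≪≫
        singleHomologyIso Y (n + d)
    have h₃ : PCn P n L := (PCn.single ((hP (n + d) (by lia)).of_iso
      ((DerivedCategory.singleFunctor C 0).mapIso eH))).of_iso eY.symm
    refine (PCn.triangle₂ hsum hqs hql hT ?_ h₃).of_iso e
    refine ih _ (fun i hi => (hEz i hi).of_iso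
      ((DerivedCategory.homologyFunctorFactors C i).app E)) fun i hi => ?_
    by_cases h : i ≤ n + d - 1
    · haveI := hι i h
      exact (hP i hi).of_iso ((DerivedCategory.singleFunctor C 0).mapIso
        ((DerivedCategory.homologyFunctorFactors C i).app E ≪≫ asIso (homologyMap ι i) ≪≫
          repHomology e i).symm)
    · exact pcn_of_isZero hsum hqs hql fun j _ => Functor.map_isZero _ (Functor.map_isZero _
        ((hEz i (by lia)).of_iso ((DerivedCategory.homologyFunctorFactors C i).app E)))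

theorem pcn_of_homology' (n b : ℤ) (F : DerivedCategory C)
    (hF : ∀ i : ℤ, b < i → IsZero ((HC i).obj F))
    (hP : ∀ i : ℤ, n ≤ i → PCn P (n - i) ((DerivedCategory.singleFunctor C 0).obj ((HC i).obj F))) :
    PCn P n F :=
  pcn_of_homology hsum hqs hql n (b + 1 - n).toNat F (fun i hi => hF i (by lia)) hP

/-! ### enlarging the class -/

section Enlarge

variable {P₁ : ObjectProperty C} [P₁.IsClosedUnderIsomorphisms]
  (hpc : ∀ X : C, P₁ X → PCoh.IsPC P ((DerivedCategory.singleFunctor C 0).obj X))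

include hpc

theorem quasiLiftable_enlarge (hle : ∀ X : C, P X → P₁ X) : PCoh.IsQuasiLiftable P₁ := by
  intro E F u hu hF
  obtain ⟨X, π, hX, _⟩ := ft_iso (singleHomologyIso F 0)
    ((pcn_iff_ft hsum hqs hql 0 _ fun i hi => isZero_single_homology F 0 i (by lia)).1 (hpc F hF 0))
  obtain ⟨F', v, hF', hv⟩ := hql (pullback u π) X (pullback.snd _ _) inferInstance hX
  refine ⟨F', v ≫ pullback.fst _ _, hle _ hF', ?_⟩
  rw [Category.assoc, pullback.condition, ← Category.assoc]
  infer_instance

theorem quasiStable_enlarge (hle : ∀ X : C, P X → P₁ X) : PCoh.IsQuasiStableUnderKernels P₁ := by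
  intro K hK ⟨N, hN⟩ hP
  let L : CochainComplex C ℕ := CochainComplex.of (fun j => K.X (j + 1))
    (fun j => K.d (j + 1) (j + 2)) (fun j => K.d_comp_d _ _ _)
  have hd : ∀ j, L.d j (j + 1) = K.d (j + 1) (j + 2) := fun j => by simp [L]
  let M := L.extend ComplexShape.embeddingUpNat
  have hM₀ : ∀ i : ℤ, i < 0 → IsZero (M.X i) := fun i hi =>
    L.isZero_extend_X ComplexShape.embeddingUpNat i fun j => by
      simp [ComplexShape.embeddingUpNat]; omega
  have hMX : ∀ i : ℤ, 0 ≤ i → (P₁ (M.X i) ∨ IsZero (M.X i)) ∧ ((N : ℤ) < i → IsZero (M.X i)) := by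
    intro i hi
    obtain ⟨j, rfl⟩ := Int.eq_ofNat_of_zero_le hi
    have e : M.X j ≅ K.X (j + 1) := L.extendXIso ComplexShape.embeddingUpNat rfl
    refine ⟨?_, fun h => (hN (j + 1) (by omega)).of_iso e⟩
    exact Or.inl (P₁.prop_of_iso e.symm (hP (j + 1) (by omega)))
  have h₁ : PCn P 0 (DerivedCategory.Q.obj M) := by
    refine pcn_of_terms' hsum hqs hql 0 N M (fun i hi => ((hMX i (by lia)).2 hi)) fun i hi => ?_
    rcases (hMX i hi).1 with h | h
    · exact hpc _ h _
    · exact pcn_of_isZero hsum hqs hql fun j _ => Functor.map_isZero _ (Functor.map_isZero _ h)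
  have hH : ∀ i : ℤ, 0 < i → IsZero (M.homology i) := fun i hi => by
    obtain ⟨j, rfl⟩ : ∃ j : ℕ, i = (j + 1 : ℕ) := ⟨i.toNat - 1, by omega⟩
    refine ((exactAt_iff_isZero_homology _ _).1 ?_).of_iso
      (L.extendHomologyIso ComplexShape.embeddingUpNat (j' := ((j + 1 : ℕ) : ℤ)) rfl)
    rw [exactAt_iff' _ j (j + 1) (j + 2) (by simp) (by simp)]
    refine (ShortComplex.exact_iff_of_iso ?_).2
      ((K.exactAt_iff' (j + 1) (j + 2) (j + 3) (by simp) (by simp)).1 (hK (j + 2)))
    refine ShortComplex.isoMk (Iso.refl _) (Iso.refl _) (Iso.refl _) ?_ ?_ <;>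
      simp only [Iso.refl_hom, Category.id_comp, Category.comp_id]
    · exact ((hd j).symm :)
    · exact ((hd (j + 1)).symm :)
  have h₂ := (pcn_iff_ft hsum hqs hql 0 _ fun i hi => (hH i hi).of_iso
    ((DerivedCategory.homologyFunctorFactors C i).app M)).1 h₁
  have e₀ : (HC 0).obj (DerivedCategory.Q.obj M) ≅ K.X 0 := by
    refine (DerivedCategory.homologyFunctorFactors C 0).app M ≪≫
      L.extendHomologyIso ComplexShape.embeddingUpNat (j' := (0 : ℤ)) rfl ≪≫
      (CochainComplex.isoHomologyπ₀ L).symm ≪≫ ?_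
    have hm : Mono (K.d 0 1) := ((HomologicalComplex.sc' K 0 0 1).exact_iff_mono
      (K.shape 0 0 (by simp))).1 ((K.exactAt_iff' 0 0 1 (by simp) (by simp)).1 (hK 0))
    let S₀ : ShortComplex C := ShortComplex.mk (K.d 0 1 : K.X 0 ⟶ L.X 0) (L.d 0 1)
      (by rw [hd 0]; exact K.d_comp_d 0 1 2)
    have hk : S₀.Exact := by
      have := (K.exactAt_iff' 0 1 2 (by simp) (by simp)).1 (hK 1)
      refine (ShortComplex.exact_iff_of_iso (?_ : S₀ ≅ K.sc' 0 1 2)).2 this
      refine ShortComplex.isoMk (Iso.refl _) (Iso.refl _) (Iso.refl _) ?_ ?_ <;>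
        simp only [Iso.refl_hom, Category.id_comp, Category.comp_id]
      · exact rfl
      · exact ((hd 0).symm :)
    haveI : Mono S₀.f := hm
    exact IsLimit.conePointUniqueUpToIso (L.cyclesIsKernel 0 1 (by simp)) hk.fIsKernel
  obtain ⟨X, π, hX, hπ⟩ := ft_iso e₀ h₂
  exact ⟨X, π, hle _ hX, hπ⟩

theorem pcn_enlarge_iff (hle : ∀ X : C, P X → P₁ X) (n : ℤ) (F : DerivedCategory C) :
    PCn P₁ n F ↔ PCn P n F := by
  refine ⟨fun ⟨E, ⟨⟨b, hb⟩, hP⟩, ⟨e⟩⟩ => ?_, fun ⟨E, hE, he⟩ => ⟨E, ⟨hE.1, fun i hi => hle _ (hE.2 i hi)⟩, he⟩⟩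
  exact (pcn_of_terms' hsum hqs hql n b E hb fun i hi => hpc _ (hP i hi) _).of_iso e

end Enlarge

end Groth.Agent.PCohLib
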