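import Groth.Agent.PCohLib.Finite
import Groth.Agent.CohDerRes.Relative

/-!
# Pseudo-coherence: extending a map by cells
-/

set_option autoImplicit false
set_option linter.unusedSectionVars false
set_option backward.isDefEq.respectTransparency false
set_option linter.style.haveILetI false

universe w v u

open CategoryTheory Limits HomologicalComplex CochainComplex HomComplex
open Groth.Agent.CohDerRes

namespace Groth.Agent.PCohLib

variable {C : Type u} [Category.{v} C] [Abelian C]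

section Refine

variable {K L : CochainComplex C ℤ} (f : K ⟶ L)

lemma lift_cycle (n : ℤ) [Epi (homologyMap f n)] {T : C} (y : T ⟶ L.X n)
    (hy : y ≫ L.d n (n + 1) = 0) :
    ∃ (T' : C) (π : T' ⟶ T) (_ : Epi π) (x : T' ⟶ K.X n) (_ : x ≫ K.d n (n + 1) = 0)
      (y₁ : T' ⟶ L.X (n - 1)), π ≫ y = x ≫ f.f n + y₁ ≫ L.d (n - 1) n :=
  (epi_homologyMap_iff_up_to_refinements f (n - 1) n (n + 1) (by simp) (by simp)).1
    inferInstance y hy

lemma lift_boundary (n : ℤ) [Mono (homologyMap f n)] {T : C} (x : T ⟶ K.X n)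
    (hx : x ≫ K.d n (n + 1) = 0) (y : T ⟶ L.X (n - 1)) (h : x ≫ f.f n = y ≫ L.d (n - 1) n) :
    ∃ (T' : C) (π : T' ⟶ T) (_ : Epi π) (x₁ : T' ⟶ K.X (n - 1)),
      π ≫ x = x₁ ≫ K.d (n - 1) n :=
  (mono_homologyMap_iff_up_to_refinements f (n - 1) n (n + 1) (by simp) (by simp)).1
    inferInstance x hx y h

end Refine

section Ext

variable {K H Q : CochainComplex C ℤ} (u : K ⟶ H) (a : Q ⟶ mappingCone u)

lemma mono_homologyMap_extπ' (n : ℤ) [Mono (homologyMap a n)] [Epi (homologyMap a (n - 1))] : Mono (homologyMap (extπ u a) n) := by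
  rw [mono_homologyMap_iff_up_to_refinements _ (n - 1) n (n + 1) (by simp) (by simp)]
  intro T x hx h hh
  rw [comp_ext_d] at hx
  have h₁ : x ≫ biprod.fst ≫ K.d n (n + 1) = x ≫ biprod.snd ≫ aFst u a n (n + 1) := by
    have := congrArg (fun t => t ≫ biprod.fst) hx
    simpa [sub_eq_zero] using this
  have h₂ : x ≫ biprod.snd ≫ Q.d n (n + 1) = 0 := by
    have := congrArg (fun t => t ≫ biprod.snd) hx
    simpa using this
  rw [comp_extπ] at hh
  have key : (x ≫ biprod.snd) ≫ a.f n = (-(x ≫ biprod.fst) ≫ (mappingCone.inl u).v n (n - 1) (by lia) +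
      h ≫ (mappingCone.inr u).f (n - 1)) ≫ (mappingCone u).d (n - 1) n := by
    refine (mappingCone.ext_to_iff u n (n + 1) rfl _ _).2 ⟨?_, ?_⟩
    · simp only [Category.assoc, mappingCone.d_fst_v u (n - 1) n (n + 1) (by lia) rfl]
      simp [← aFst_eq u a n (n + 1) rfl, h₁]
    · simp only [Category.assoc, mappingCone.d_snd_v u (n - 1) n (by lia)]
      simp
      rw [← hh]
      simp [aSnd]
  obtain ⟨T', π, hπ, q, hq⟩ := lift_boundary a n (x ≫ biprod.snd)
    (by rw [Category.assoc, h₂]) _ key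
  have hc : (q ≫ a.f (n - 1) - π ≫ (-(x ≫ biprod.fst) ≫ (mappingCone.inl u).v n (n - 1) (by lia) +
      h ≫ (mappingCone.inr u).f (n - 1))) ≫ (mappingCone u).d (n - 1) n = 0 := by
    rw [Preadditive.sub_comp, Category.assoc, a.comm, ← reassoc_of% hq, Category.assoc π _ _,
      ← key, Category.assoc x, sub_self]
  obtain ⟨T'', π', hπ', q₂, hq₂, c, hc'⟩ := lift_cycle a (n - 1)
    (q ≫ a.f (n - 1) - π ≫ (-(x ≫ biprod.fst) ≫ (mappingCone.inl u).v n (n - 1) (by lia) +
      h ≫ (mappingCone.inr u).f (n - 1)))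
    (by rw [show n - 1 + 1 = n by lia]; exact hc)
  have hq₂' : q₂ ≫ Q.d (n - 1) n = 0 := by
    rw [show n - 1 + 1 = n by lia] at hq₂; exact hq₂
  refine ⟨T'', π' ≫ π, inferInstance,
    (-(c ≫ (mappingCone.fst u).1.v (n - 1 - 1) (n - 1) (by lia))) ≫ biprod.inl +
      (π' ≫ q - q₂) ≫ biprod.inr, ?_⟩
  have hc₁ := congrArg (fun t => t ≫ (mappingCone.fst u).1.v (n - 1) n (by lia)) hc'
  simp [mappingCone.d_fst_v u (n - 1 - 1) (n - 1) n (by lia) (by lia),
    ← aFst_eq u a (n - 1) n (by lia)] at hc₁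
  rw [comp_ext_d]
  apply biprod.hom_ext
  · simp
    rw [eq_sub_iff_add_eq] at *
    rw [← sub_eq_zero] at hc₁ ⊢
    refine Eq.trans ?_ hc₁
    abel
  · simp [hq₂', ← hq]

lemma epi_homologyMap_extπ' (n : ℤ) [Epi (homologyMap a n)] : Epi (homologyMap (extπ u a) n) := by
  rw [epi_homologyMap_iff_up_to_refinements _ (n - 1) n (n + 1) (by simp) (by simp)]
  intro T y hy
  obtain ⟨T', π, hπ, q, hq, c, hc⟩ := lift_cycle a n (y ≫ (mappingCone.inr u).f n)
    (by rw [Category.assoc, (mappingCone.inr u).comm, ← Category.assoc, hy, zero_comp])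
  have hc₁ := congrArg (fun t => t ≫ (mappingCone.fst u).1.v n (n + 1) rfl) hc
  simp [mappingCone.d_fst_v u (n - 1) n (n + 1) (by lia) rfl, ← aFst_eq u a n (n + 1) rfl] at hc₁
  have hc₂ := congrArg (fun t => t ≫ (mappingCone.snd u).v n n (add_zero n)) hc
  simp [mappingCone.d_snd_v u (n - 1) n (by lia)] at hc₂
  refine ⟨T', π, hπ, (c ≫ (mappingCone.fst u).1.v (n - 1) n (by lia)) ≫ biprod.inl + q ≫ biprod.inr,
    ?_, c ≫ (mappingCone.snd u).v (n - 1) (n - 1) (add_zero _), ?_⟩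
  · rw [comp_ext_d]
    apply biprod.hom_ext
    · simp
      simp [add_neg_eq_zero, neg_add_eq_zero, sub_eq_zero] at hc₁ ⊢
      rw [eq_comm, ← sub_eq_zero, sub_eq_add_neg]
      exact hc₁.symm
    · simp [hq]
  · rw [comp_extπ, hc₂]
    simp [aSnd]
    abel

lemma nqis_extπ (k : ℤ) (h : NQis k a) : NQis k (extπ u a) where
  epi i hi := by haveI := h.epi i hi; exact epi_homologyMap_extπ' u a i
  mono i hi := by
    haveI := h.mono i hi
    haveI := h.epi (i - 1) (by lia)
    exact mono_homologyMap_extπ' u a i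

lemma mono_extι_f (i : ℤ) : Mono ((extι u a).f i) := inferInstanceAs (Mono biprod.inl)

lemma isIso_extι_f (i : ℤ) (h : IsZero (Q.X i)) : IsIso ((extι u a).f i) :=
  show IsIso (biprod.inl : K.X i ⟶ K.X i ⊞ Q.X i) from
    ⟨biprod.fst, biprod.inl_fst, biprod.hom_ext _ _ (by simp) (h.eq_of_tgt _ _)⟩

/-- the cokernel of the inclusion -/
noncomputable def cokerExtι (i : ℤ) : cokernel ((extι u a).f i) ≅ Q.X i :=
  (cokernelIsCokernel ((extι u a).f i)).coconePointUniqueUpToIso (biprod.isCokernelInlCokernelFork _ _)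

end Ext

end Groth.Agent.PCohLib
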