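import Groth.Agent.PCohLib.Basic

/-!
# Pseudo-coherence: finiteness of the top cohomology, coherence lemmas
-/

set_option autoImplicit false
set_option backward.isDefEq.respectTransparency false
set_option linter.style.haveILetI false

universe w v u

open CategoryTheory Limits HomologicalComplex

namespace Groth.Agent.PCohLib

variable {C : Type u} [Category.{v} C] [Abelian C] {P : ObjectProperty C}
  [P.IsClosedUnderIsomorphisms]

/-- kernels of maps from objects of `P` are of finite type -/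
def KerFT (P : ObjectProperty C) (X : C) : Prop :=
  ∀ (E : C) (u : E ⟶ X), P E → PCoh.IsOfFiniteType P (kernel u)

lemma kerFT_of_exact (hsum : ∀ X Y : C, P X → P Y → P (X ⨯ Y)) (hql : PCoh.IsQuasiLiftable P)
    (S : ShortComplex C) (hS : S.Exact) (hg : Epi S.g) (hF : PCoh.IsOfFiniteType P S.X₁)
    (hG : KerFT P S.X₂) : KerFT P S.X₃ := by
  intro E u hE
  obtain ⟨E₁, π₁, hE₁, _⟩ := hF
  obtain ⟨E', v, hE', hv⟩ := hql (pullback S.g u) E (pullback.snd _ _) inferInstance hE
  let φ : E₁ ⊞ E' ⟶ S.X₂ := biprod.desc (π₁ ≫ S.f) (v ≫ pullback.fst _ _)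
  have hφ : φ ≫ S.g = biprod.snd ≫ (v ≫ pullback.snd _ _) ≫ u := by
    ext <;> simp [φ, pullback.condition]
  let ψ : kernel φ ⟶ kernel u := kernel.lift u (kernel.ι φ ≫ biprod.snd ≫ v ≫ pullback.snd _ _)
    (by
      have := kernel.ι φ ≫= hφ
      simp only [kernel.condition_assoc, zero_comp, Category.assoc] at this
      simpa only [Category.assoc] using this.symm)
  haveI : Epi ψ := by
    rw [epi_iff_surjective_up_to_refinements]
    intro T y
    obtain ⟨T₁, p₁, _, e, he⟩ :=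
      surjective_up_to_refinements_of_epi (v ≫ pullback.snd S.g u) (y ≫ kernel.ι u)
    obtain ⟨T₂, p₂, _, x, hx⟩ := hS.exact_up_to_refinements (e ≫ v ≫ pullback.fst _ _) (by
      simp only [Category.assoc, pullback.condition, ← reassoc_of% he, kernel.condition, comp_zero])
    obtain ⟨T₃, p₃, _, x', hx'⟩ := surjective_up_to_refinements_of_epi π₁ x
    refine ⟨T₃, p₃ ≫ p₂ ≫ p₁, inferInstance,
      kernel.lift φ ((-x') ≫ biprod.inl + (p₃ ≫ p₂ ≫ e) ≫ biprod.inr) (by
        simp [φ, ← reassoc_of% hx', hx]), ?_⟩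
    rw [← cancel_mono (kernel.ι u)]
    simp [ψ, he]
  exact ft_epi ψ (hG _ φ (prop_biprod hsum hE₁ hE'))

lemma ft_of_kerFT (S : ShortComplex C) (hS : S.Exact) (hf : Mono S.f)
    (hG : PCoh.IsOfFiniteType P S.X₂) (hH : KerFT P S.X₃) : PCoh.IsOfFiniteType P S.X₁ := by
  obtain ⟨E, π, hE, _⟩ := hG
  let ψ : kernel (π ≫ S.g) ⟶ S.X₁ := hS.lift (kernel.ι _ ≫ π) (by simp)
  haveI : Epi ψ := by
    rw [epi_iff_surjective_up_to_refinements]
    intro T y
    obtain ⟨T₁, p₁, _, e, he⟩ := surjective_up_to_refinements_of_epi π (y ≫ S.f)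
    refine ⟨T₁, p₁, inferInstance, kernel.lift _ e (by simp [← reassoc_of% he]), ?_⟩
    rw [← cancel_mono S.f]
    simp [ψ, he]
  exact ft_epi ψ (hH E (π ≫ S.g) hE)

lemma kerFT_extension (S : ShortComplex C) (hS : S.ShortExact) (h₁ : KerFT P S.X₁)
    (h₃ : KerFT P S.X₃) : KerFT P S.X₂ := by
  intro E u hE
  haveI := hS.mono_f
  obtain ⟨E', π₀, hE', _⟩ := h₃ E (u ≫ S.g) hE
  let w : E' ⟶ S.X₁ := hS.exact.lift (π₀ ≫ kernel.ι _ ≫ u) (by simp)
  have hw : w ≫ S.f = π₀ ≫ kernel.ι _ ≫ u := hS.exact.lift_f _ _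
  let ψ : kernel w ⟶ kernel u := kernel.lift u (kernel.ι w ≫ π₀ ≫ kernel.ι _) (by
    simp only [Category.assoc, ← hw, kernel.condition_assoc, zero_comp])
  haveI : Epi ψ := by
    rw [epi_iff_surjective_up_to_refinements]
    intro T y
    obtain ⟨T₁, p₁, _, e, he⟩ := surjective_up_to_refinements_of_epi π₀
      (kernel.lift (u ≫ S.g) (y ≫ kernel.ι u) (by simp))
    have he' := he =≫ kernel.ι (u ≫ S.g)
    simp only [Category.assoc, kernel.lift_ι] at he'
    refine ⟨T₁, p₁, inferInstance, kernel.lift w e (by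
      rw [← cancel_mono S.f, zero_comp, Category.assoc, hw, ← reassoc_of% he']
      simp), ?_⟩
    rw [← cancel_mono (kernel.ι u)]
    simp [ψ, he']
  exact ft_epi ψ (h₁ E' w hE')

/-! ### the top cohomology -/

section Top

variable (E : CochainComplex C ℤ) (n : ℤ)

/-- terms of the tail of `E` -/
noncomputable def tailX : ℕ → C
  | 0 => E.cycles (n + (0 : ℕ))
  | j + 1 => E.X (n + j)

/-- differentials of the tail of `E` -/
noncomputable def tailD : ∀ j : ℕ, tailX E n j ⟶ tailX E n (j + 1)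
  | 0 => E.iCycles (n + (0 : ℕ))
  | j + 1 => E.d (n + j) (n + (j + 1 : ℕ))

lemma tailD_comp : ∀ j : ℕ, tailD E n j ≫ tailD E n (j + 1) = 0
  | 0 => E.iCycles_d _ _
  | _ + 1 => E.d_comp_d _ _ _

/-- the tail of `E`: cycles followed by the terms -/
noncomputable def tail : CochainComplex C ℕ :=
  CochainComplex.of (tailX E n) (tailD E n) (tailD_comp E n)

lemma tail_d (j : ℕ) : (tail E n).d j (j + 1) = tailD E n j := CochainComplex.of_d _ _ _

lemma tail_exactAt (hac : ∀ i : ℤ, n < i → IsZero (E.homology i)) :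
    ∀ j : ℕ, (tail E n).ExactAt j
  | 0 => by
    rw [exactAt_iff' _ 0 0 1 (by simp) (by simp)]
    refine ((HomologicalComplex.sc' (tail E n) 0 0 1).exact_iff_mono
      ((tail E n).shape 0 0 (by simp))).2 ?_
    show Mono ((tail E n).d 0 (0 + 1))
    rw [tail_d]
    exact inferInstanceAs (Mono (E.iCycles _))
  | 1 => by
    rw [exactAt_iff' _ 0 1 2 (by simp) (by simp)]
    refine (ShortComplex.exact_iff_of_iso ?_).2 (ShortComplex.exact_of_f_is_kernel
      (ShortComplex.mk (E.iCycles (n + (0 : ℕ))) (E.d (n + (0 : ℕ)) (n + (1 : ℕ)))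
        (E.iCycles_d _ _)) (E.cyclesIsKernel _ _ (by simp)))
    refine ShortComplex.isoMk (Iso.refl _) (Iso.refl _) (Iso.refl _) ?_ ?_ <;>
      simp only [Iso.refl_hom, Category.id_comp, Category.comp_id]
    · exact ((tail_d E n 0).symm :)
    · exact ((tail_d E n 1).symm :)
  | j + 2 => by
    rw [exactAt_iff' _ (j + 1) (j + 2) (j + 3) (by simp) (by simp)]
    have := (E.exactAt_iff' (n + j) (n + (j + 1 : ℕ)) (n + (j + 2 : ℕ)) (by simp; omega)
      (by simp; omega)).1 ((E.exactAt_iff_isZero_homology _).2 (hac _ (by omega)))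
    refine (ShortComplex.exact_iff_of_iso ?_).2 this
    refine ShortComplex.isoMk (Iso.refl _) (Iso.refl _) (Iso.refl _) ?_ ?_ <;>
      simp only [Iso.refl_hom, Category.id_comp, Category.comp_id]
    · exact ((tail_d E n (j + 1)).symm :)
    · exact ((tail_d E n (j + 2)).symm :)

omit [P.IsClosedUnderIsomorphisms] in
lemma ft_cycles_of_strict (hqs : PCoh.IsQuasiStableUnderKernels P) (hE : PCoh.IsStrictPC P n E)
    (hac : ∀ i : ℤ, n < i → IsZero (E.homology i)) :
    PCoh.IsOfFiniteType P (E.cycles (n + (0 : ℕ))) := by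
  obtain ⟨⟨b, hb⟩, hP⟩ := hE
  refine hqs (tail E n) (tail_exactAt E n hac) ⟨(b - n).toNat + 1, fun i hi => ?_⟩ fun i hi => ?_
  · obtain ⟨j, rfl⟩ : ∃ j, i = j + 1 := ⟨i - 1, by omega⟩
    exact hb _ (by omega)
  · obtain ⟨j, rfl⟩ : ∃ j, i = j + 1 := ⟨i - 1, by omega⟩
    exact hP _ (by omega)

omit [P.IsClosedUnderIsomorphisms] in
/-- the top cohomology of a strictly pseudo-coherent complex is of finite type -/
lemma ft_homology_of_strict (hqs : PCoh.IsQuasiStableUnderKernels P) (hE : PCoh.IsStrictPC P n E)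
    (hac : ∀ i : ℤ, n < i → IsZero (E.homology i)) : PCoh.IsOfFiniteType P (E.homology n) := by
  have h := ft_cycles_of_strict E n hqs hE hac
  rw [show n + ((0 : ℕ) : ℤ) = n by simp] at h
  obtain ⟨X, π, hX, hπ⟩ := h
  exact ⟨X, π ≫ E.homologyπ n, hX, inferInstance⟩

end Top

end Groth.Agent.PCohLib
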