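import Groth.Agent.PCohLib.Devissage
import Groth.Agent.DimShift.Limit

/-!
# Pseudo-coherence: infinite modifications
-/

set_option autoImplicit false
set_option linter.unusedSectionVars false
set_option backward.isDefEq.respectTransparency false
set_option linter.style.haveILetI false

universe w v u

open CategoryTheory Limits HomologicalComplex CochainComplex Pretriangulated ZeroObject
open Groth.Agent

namespace Groth.Agent.PCohLib

variable {C : Type u} [Category.{v} C] [Abelian C] [HasDerivedCategory.{w} C]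

local notation "HC" => DerivedCategory.homologyFunctor C

variable {P : ObjectProperty C} [P.IsClosedUnderIsomorphisms] [P.ContainsZero]
  (hsum : ∀ X Y : C, P X → P Y → P (X ⨯ Y))
  (hqs : PCoh.IsQuasiStableUnderKernels P) (hql : PCoh.IsQuasiLiftable P)

/-- an approximation at a given stage -/
structure Approx (P : ObjectProperty C) (F : CochainComplex C ℤ) (k : ℤ) where
  /-- the complex -/
  S : CochainComplex C ℤ
  /-- the map -/
  g : S ⟶ F
  hS : PCoh.IsStrictPCAll P S
  hg : NQis k g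

include hsum hqs hql

/-- a pseudo-coherent complex is reached by infinitely many modifications -/
theorem exists_infinite {k : ℤ} {G F : CochainComplex C ℤ} (g : G ⟶ F)
    (hG : PCoh.IsStrictPCAll P G) (hF : PCoh.IsPC P (DerivedCategory.Q.obj F)) (hg : NQis k g) :
    ∃ (E : CochainComplex C ℤ) (v : G ⟶ E) (u : E ⟶ F), v ≫ u = g ∧ PCoh.IsStrictPCAll P E ∧
      QuasiIso u ∧ (∀ j : ℤ, Mono (v.f j)) ∧ (∀ j : ℤ, k ≤ j → IsIso (v.f j)) := by
  have hstep : ∀ (j : ℕ) (A : Approx P F (k - j)),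
      ∃ (B : Approx P F (k - (j + 1 : ℕ))) (s : A.S ⟶ B.S), s ≫ B.g = A.g ∧
        (∀ i : ℤ, Mono (s.f i)) ∧ (∀ i : ℤ, k - j ≤ i → IsIso (s.f i)) := fun j A => by
    obtain ⟨G', v, g', h₁, h₂, h₃, h₄, h₅, h₆⟩ := exists_approx hsum hqs hql
      (n := k - (j + 1 : ℕ)) (by lia) A.g (strict_of_all A.hS _) (hF _) A.hg
    exact ⟨⟨G', g', ⟨h₄.1, fun i => h₆ i (A.hS.2 i)⟩, h₅⟩, v, h₁, h₂, fun i hi => h₃ i (Or.inr hi)⟩
  choose B s hs₁ hs₂ hs₃ using hstep
  let A : ∀ j : ℕ, Approx P F (k - j) := Nat.rec ⟨G, g, hG, by simpa using hg⟩ fun j A => B j A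
  let S : ℕ → CochainComplex C ℤ := fun j => (A j).S
  let t : ∀ j, S j ⟶ S (j + 1) := fun j => s j (A j)
  have ht : ∀ j, t j ≫ (A (j + 1)).g = (A j).g := fun j => hs₁ j (A j)
  let J : ℤ → ℕ := fun i => (k - i).toNat
  have hJ : ∀ (i : ℤ) (j : ℕ), J i ≤ j → IsIso ((t j).f i) := fun i j hij =>
    hs₃ j (A j) i (by simp only [J] at hij; lia)
  have htr : ∀ {j M : ℕ} (h : j ≤ M), DimShift.tr S t h ≫ (A M).g = (A j).g := by
    intro j M h
    induction M, h using Nat.le_induction with
    | base => rw [DimShift.tr_refl, Category.id_comp]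
    | succ M h ih =>
      rw [← DimShift.tr_comp S t h (Nat.le_succ M), DimShift.tr_succ, Category.assoc, ht, ih]
  have hmono : ∀ {j M : ℕ} (h : j ≤ M) (i : ℤ), Mono ((DimShift.tr S t h).f i) := by
    intro j M h i
    induction M, h using Nat.le_induction with
    | base => rw [DimShift.tr_refl, HomologicalComplex.id_f]; infer_instance
    | succ M h ih =>
      haveI : Mono ((t M).f i) := hs₂ M (A M) i
      rw [← DimShift.tr_comp S t h (Nat.le_succ M), DimShift.tr_succ, HomologicalComplex.comp_f]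
      infer_instance
  have he : ∀ (i : ℤ) {M : ℕ} (h : J i ≤ M),
      (DimShift.e t J hJ i h).hom ≫ (A M).g.f i = (A (J i)).g.f i := fun i M h => by
    show (DimShift.tr S t h).f i ≫ _ = _
    rw [← HomologicalComplex.comp_f, htr]
  let u : DimShift.lim t J hJ ⟶ F :=
    { f := fun i => (A (J i)).g.f i
      comm' := fun i l _ => by
        show _ = DimShift.dLim t J hJ i l ≫ _
        rw [DimShift.dLim_eq t J hJ i l (le_max_left _ _) (le_max_right _ _), Category.assoc,
          Category.assoc, ← he l (le_max_right (J i) (J l)), Iso.inv_hom_id_assoc,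
          ← (A (max (J i) (J l))).g.comm, ← Category.assoc, he] }
  have hu : QuasiIso u := ⟨fun i => by
    rw [quasiIsoAt_iff' _ (i - 1) i (i + 1) (by simp) (by simp)]
    let M := max (max (J (i - 1)) (J i)) (J (i + 1))
    let φ : (DimShift.lim t J hJ).sc' (i - 1) i (i + 1) ≅ (S M).sc' (i - 1) i (i + 1) :=
      ShortComplex.isoMk (DimShift.e t J hJ (i - 1) (by omega)) (DimShift.e t J hJ i (by omega))
        (DimShift.e t J hJ (i + 1) (by omega))
        (by
          change _ = DimShift.dLim t J hJ _ _ ≫ _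
          rw [DimShift.dLim_eq t J hJ _ _ (M := M) (by omega) (by omega)]
          simp [S])
        (by
          change _ = DimShift.dLim t J hJ _ _ ≫ _
          rw [DimShift.dLim_eq t J hJ _ _ (M := M) (by omega) (by omega)]
          simp [S])
    have h2 : φ.hom ≫ (shortComplexFunctor' C (ComplexShape.up ℤ) (i - 1) i (i + 1)).map (A M).g =
        (shortComplexFunctor' C (ComplexShape.up ℤ) (i - 1) i (i + 1)).map u := by
      apply ShortComplex.hom_ext <;> exact he _ (by omega)
    haveI : ShortComplex.QuasiIso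
        ((shortComplexFunctor' C (ComplexShape.up ℤ) (i - 1) i (i + 1)).map (A M).g) := by
      rw [← quasiIsoAt_iff' _ (i - 1) i (i + 1) (by simp) (by simp),
        quasiIsoAt_iff_isIso_homologyMap]
      exact (A M).hg.isIso i (by simp only [M, J]; lia)
    rw [← h2]
    infer_instance⟩
  have hv : ∀ i : ℤ, k ≤ i → IsIso ((DimShift.toLim t J hJ).f i) := fun i hi =>
    DimShift.isIso_tr t J hJ i (by simp only [J]; lia) _
  refine ⟨DimShift.lim t J hJ, DimShift.toLim t J hJ, u, ?_, ⟨?_, fun i => (A (J i)).hS.2 i⟩, hu,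
    fun i => hmono _ i, hv⟩
  · refine HomologicalComplex.hom_ext _ _ fun i => ?_
    show (DimShift.tr S t _).f i ≫ (A (J i)).g.f i = _
    rw [← HomologicalComplex.comp_f, htr]
    rfl
  · obtain ⟨b, hb⟩ := hG.1
    refine ⟨max b k, fun i hi => ?_⟩
    haveI := hv i (by lia)
    exact (hb i (by lia)).of_iso (asIso ((DimShift.toLim t J hJ).f i)).symm

/-- strictly pseudo-coherent representatives -/
theorem exists_strictAll {F : CochainComplex C ℤ} (hF : PCoh.IsPC P (DerivedCategory.Q.obj F))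
    {m : ℤ} (hac : ∀ i, m ≤ i → IsZero (F.homology i)) :
    ∃ (E : CochainComplex C ℤ) (u : E ⟶ F), PCoh.IsStrictPCAll P E ∧ QuasiIso u ∧
      ∀ i, m ≤ i → IsZero (E.X i) := by
  obtain ⟨E, v, u, -, hE, hu, -, hv⟩ := exists_infinite hsum hqs hql
    (0 : (0 : CochainComplex C ℤ) ⟶ F) all_zero hF (nqis_zero hac)
  refine ⟨E, u, hE, hu, fun i hi => ?_⟩
  haveI := hv i hi
  exact ((HomologicalComplex.eval C (ComplexShape.up ℤ) i).map_isZero
    (isZero_zero (CochainComplex C ℤ))).of_iso (asIso (v.f i)).symm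

omit hsum hqs hql in
lemma exists_acyclic_bound {F : DerivedCategory C} (hF : PCoh.IsPC P F) :
    ∃ m : ℤ, ∀ i, m ≤ i → IsZero ((HC i).obj F) := by
  obtain ⟨E, ⟨⟨b, hb⟩, -⟩, ⟨e⟩⟩ := hF 0
  exact ⟨b + 1, fun i hi => (ShortComplex.isZero_homology_of_isZero_X₂ _ (hb i (by lia))).of_iso
    (repHomology e i).symm⟩

omit hsum hqs hql in
lemma isPC_of_iso {F F' : DerivedCategory C} (e : F ≅ F') (h : PCoh.IsPC P F) : PCoh.IsPC P F' :=
  fun n => PCn.of_iso e (h n)

omit hsum hqs hql in
lemma isPC_of_all {E : CochainComplex C ℤ} (hE : PCoh.IsStrictPCAll P E) :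
    PCoh.IsPC P (DerivedCategory.Q.obj E) := fun n => pcn_Q (strict_of_all hE n)

theorem exists_strictAll_rep (F : DerivedCategory C) (hF : PCoh.IsPC P F) {m : ℤ}
    (hac : ∀ i, m ≤ i → IsZero ((HC i).obj F)) :
    ∃ E : CochainComplex C ℤ, PCoh.IsStrictPCAll P E ∧ (∀ i, m ≤ i → IsZero (E.X i)) ∧
      Nonempty (DerivedCategory.Q.obj E ≅ F) := by
  obtain ⟨F₀, ⟨e⟩⟩ := exists_rep F
  obtain ⟨E, u, hE, hu, hz⟩ := exists_strictAll hsum hqs hql (isPC_of_iso e.symm hF) (m := m)
    fun i hi => (hac i hi).of_iso (repHomology e i)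
  exact ⟨E, hE, hz, ⟨asIso (DerivedCategory.Q.map u) ≪≫ e⟩⟩

theorem exists_qis_from_all (X : CochainComplex C ℤ) (hX : PCoh.IsPC P (DerivedCategory.Q.obj X)) :
    ∃ (E : CochainComplex C ℤ) (u : E ⟶ X), PCoh.IsStrictPCAll P E ∧ QuasiIso u := by
  obtain ⟨m, hm⟩ := exists_acyclic_bound hX
  obtain ⟨E, u, hE, hu, -⟩ := exists_strictAll hsum hqs hql hX (m := m) fun i hi =>
    (hm i hi).of_iso ((DerivedCategory.homologyFunctorFactors C i).app X).symm
  exact ⟨E, u, hE, hu⟩

/-- morphisms in the derived category are roofs of strictly pseudo-coherent complexes -/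
theorem exists_roof {E E' : CochainComplex C ℤ} (hE : PCoh.IsStrictPCAll P E)
    (α : DerivedCategory.Q.obj E ⟶ DerivedCategory.Q.obj E') :
    ∃ (E'' : CochainComplex C ℤ) (s : E'' ⟶ E) (f : E'' ⟶ E'), PCoh.IsStrictPCAll P E'' ∧
      QuasiIso s ∧ DerivedCategory.Q.map s ≫ α = DerivedCategory.Q.map f := by
  obtain ⟨X, s, hs, g, hg⟩ := DerivedCategory.right_fac α
  haveI : QuasiIso s := (DerivedCategory.isIso_Q_map_iff_quasiIso C s).1 hs
  obtain ⟨E'', w, hE'', hw⟩ := exists_qis_from_all hsum hqs hql X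
    (isPC_of_iso (asIso (DerivedCategory.Q.map s)).symm (isPC_of_all hE))
  refine ⟨E'', w ≫ s, w ≫ g, hE'', inferInstance, ?_⟩
  simp [hg]

/-- equality in the derived category is homotopy after a quasi-isomorphism -/
theorem exists_homotopy {E E' : CochainComplex C ℤ} (hE : PCoh.IsStrictPCAll P E) (f g : E ⟶ E')
    (hfg : DerivedCategory.Q.map f = DerivedCategory.Q.map g) :
    ∃ (E'' : CochainComplex C ℤ) (s : E'' ⟶ E), PCoh.IsStrictPCAll P E'' ∧ QuasiIso s ∧
      Nonempty (Homotopy (s ≫ f) (s ≫ g)) := by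
  have h : DerivedCategory.Qh.map ((HomotopyCategory.quotient C _).map f) =
      DerivedCategory.Qh.map ((HomotopyCategory.quotient C _).map g) := by
    have hf := (DerivedCategory.quotientCompQhIso C).hom.naturality f
    have hg := (DerivedCategory.quotientCompQhIso C).hom.naturality g
    rw [hfg, ← hg, cancel_mono] at hf
    exact hf
  obtain ⟨⟨X⟩, s, hs, hfac⟩ := (MorphismProperty.map_eq_iff_precomp DerivedCategory.Qh
    (HomotopyCategory.quasiIso C (ComplexShape.up ℤ)) _ _).1 h
  haveI : IsIso (DerivedCategory.Qh.map s) := (DerivedCategory.isIso_Qh_map_iff s).2 hs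
  obtain ⟨s', rfl⟩ := (HomotopyCategory.quotient C (ComplexShape.up ℤ)).map_surjective s
  haveI hsq : QuasiIso s' := (HomotopyCategory.quotient_map_mem_quasiIso_iff s').1 hs
  obtain ⟨E'', w, hE'', hw⟩ := exists_qis_from_all hsum hqs hql X
    (isPC_of_iso (asIso (DerivedCategory.Q.map s')).symm (isPC_of_all hE))
  rw [← Functor.map_comp, ← Functor.map_comp] at hfac
  refine ⟨E'', w ≫ s', hE'', inferInstance, ⟨?_⟩⟩
  rw [Category.assoc, Category.assoc]
  exact (HomotopyCategory.homotopyOfEq _ _ hfac).compLeft w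

end Groth.Agent.PCohLib
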