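import Groth.Agent.PCohLib.Infinite
import Mathlib.Algebra.Homology.DerivedCategory.KProjective
import Mathlib.Algebra.Homology.HomologicalComplexBiprod
import Mathlib.Algebra.Homology.HomotopyCategory.KProjective

/-!
# Perfect complexes for a class of projective objects
-/

set_option autoImplicit false
set_option linter.unusedSectionVars false
set_option backward.isDefEq.respectTransparency false
set_option linter.style.haveILetI false

universe w v u

open CategoryTheory Limits HomologicalComplex CochainComplex Pretriangulated ZeroObject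

namespace Groth.Agent.PCohLib

variable {C : Type u} [Category.{v} C] [Abelian C]

variable {P : ObjectProperty C} [P.IsClosedUnderIsomorphisms] [P.ContainsZero]
  (hlift : ∀ (E F : C) (u : E ⟶ F), Epi u → P F → IsSplitEpi u)
  (hst : ∀ (E F : C) (u : E ⟶ F), Epi u → P E → P F → P (kernel u))

include hlift in
lemma projective_of_prop {X : C} (hX : P X) : Projective X where
  factors {E Y} f e _ := by
    haveI := hlift (pullback e f) X (pullback.snd e f) inferInstance hX
    exact ⟨section_ (pullback.snd e f) ≫ pullback.fst e f, by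
      rw [Category.assoc, pullback.condition, IsSplitEpi.id_assoc]⟩

include hlift in
lemma quasiLiftable_of_split : PCoh.IsQuasiLiftable P := fun E F u hu hF => by
  haveI := hlift E F u hu hF
  exact ⟨F, section_ u, hF, by rw [IsSplitEpi.id]; infer_instance⟩

include hst in
lemma prop_cycles_step {ι : Type*} {c : ComplexShape ι} (K : HomologicalComplex C c) (i j k : ι)
    (hij : c.prev j = i) (hi : c.next i = j) (hk : c.next j = k) (hex : K.ExactAt j)
    (hX : P (K.X i)) (hZ : P (K.cycles j)) : P (K.cycles i) := by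
  haveI : Epi (K.toCycles i j) :=
    (ShortComplex.exact_of_g_is_cokernel
      (ShortComplex.mk (K.toCycles i j) (K.homologyπ j) (K.toCycles_comp_homologyπ _ _))
      (K.homologyIsCokernel i j hij)).epi_f
      (((exactAt_iff_isZero_homology _ _).1 hex).eq_of_tgt _ _)
  exact P.prop_of_iso ((kernelCompMono (K.toCycles i j) (K.iCycles j)).symm ≪≫
    kernelIsoOfEq (K.toCycles_i i j) ≪≫
    ((K.cyclesIsKernel i j hi).conePointUniqueUpToIso (kernelIsKernel (K.d i j))).symm)
    (hst _ _ (K.toCycles i j) inferInstance hX hZ)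

include hst in
lemma prop_cycles (F : CochainComplex C ℤ) (b : ℤ) (hP : ∀ i, b ≤ i → P (F.X i))
    (c : ℤ) (hvan : ∀ i, c < i → IsZero (F.X i))
    (hac : ∀ i, b < i → IsZero (F.homology i)) : P (F.cycles b) := by
  suffices ∀ (d : ℕ) (j : ℤ), b ≤ j → c + 1 - d ≤ j → P (F.cycles j) from
    this (c + 1 - b).toNat b le_rfl (by lia)
  intro d
  induction d with
  | zero => exact fun j _ hj => prop_isZero (IsZero.of_mono (F.iCycles j) (hvan j (by lia)))
  | succ d ih =>
    intro j hbj hj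
    exact prop_cycles_step hst F j (j + 1) (j + 1 + 1) (by simp) (by simp) (by simp)
      ((exactAt_iff_isZero_homology _ _).2 (hac _ (by lia))) (hP j hbj) (ih (j + 1) (by lia) (by lia))

include hst in
lemma quasiStable_of_kernels : PCoh.IsQuasiStableUnderKernels P := by
  intro K hK ⟨N, hN⟩ hP
  have hZ : ∀ (d j : ℕ), 1 ≤ j → N + 1 ≤ j + d → P (K.cycles j) := by
    intro d
    induction d with
    | zero => exact fun j _ hj => prop_isZero (IsZero.of_mono (K.iCycles j) (hN j (by omega)))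
    | succ d ih =>
      intro j h1 hj
      exact prop_cycles_step hst K j (j + 1) (j + 2) (by simp) (by simp) (by simp) (hK (j + 1))
        (hP j h1) (ih (j + 1) (by omega) (by omega))
  haveI : Epi (K.toCycles 0 1) :=
    (ShortComplex.exact_of_g_is_cokernel
      (ShortComplex.mk (K.toCycles 0 1) (K.homologyπ 1) (K.toCycles_comp_homologyπ _ _))
      (K.homologyIsCokernel 0 1 (by simp))).epi_f
      (((exactAt_iff_isZero_homology _ _).1 (hK 1)).eq_of_tgt _ _)
  haveI hm : Mono (K.d 0 1) := ((HomologicalComplex.sc' K 0 0 1).exact_iff_mono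
    (K.shape 0 0 (by simp))).1 ((K.exactAt_iff' 0 0 1 (by simp) (by simp)).1 (hK 0))
  haveI : Mono (K.toCycles 0 1) := mono_of_mono_fac (K.toCycles_i 0 1)
  haveI := isIso_of_mono_of_epi (K.toCycles 0 1)
  exact ft_self (P.prop_of_iso (asIso (K.toCycles 0 1)).symm (hZ N 1 le_rfl (by omega)))

include hlift in
lemma isKProjective_of_bounded {E : CochainComplex C ℤ} (b : ℤ)
    (hb : ∀ i, b < i → IsZero (E.X i)) (hP : ∀ i, P (E.X i)) : E.IsKProjective := by
  haveI : E.IsStrictlyLE b := (isStrictlyLE_iff _ _).2 hb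
  haveI : ∀ i, Projective (E.X i) := fun i => projective_of_prop hlift (hP i)
  exact isKProjective_of_projective E b

variable [HasDerivedCategory.{w} C]

local notation "HC" => DerivedCategory.homologyFunctor C

omit [P.IsClosedUnderIsomorphisms] [P.ContainsZero] in
lemma exists_chain_map {K L : CochainComplex C ℤ} [K.IsKProjective]
    (β : DerivedCategory.Q.obj K ⟶ DerivedCategory.Q.obj L) :
    ∃ f : K ⟶ L, DerivedCategory.Q.map f = β := by
  obtain ⟨g, hg⟩ := (CochainComplex.IsKProjective.Qh_map_bijective K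
    ((HomotopyCategory.quotient C _).obj L)).2
      ((DerivedCategory.quotientCompQhIso C).hom.app K ≫ β ≫
        (DerivedCategory.quotientCompQhIso C).inv.app L)
  obtain ⟨f, rfl⟩ := (HomotopyCategory.quotient C (ComplexShape.up ℤ)).map_surjective g
  refine ⟨f, ?_⟩
  have := (DerivedCategory.quotientCompQhIso C).hom.naturality f
  rw [Functor.comp_map, hg] at this
  simp only [Category.assoc, Iso.inv_hom_id_app] at this
  erw [Category.comp_id] at this
  exact ((cancel_epi ((DerivedCategory.quotientCompQhIso C).hom.app K)).1 this).symm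

omit [P.IsClosedUnderIsomorphisms] [P.ContainsZero] in
lemma homotopy_of_Q_eq {K L : CochainComplex C ℤ} [K.IsKProjective] (f g : K ⟶ L)
    (h : DerivedCategory.Q.map f = DerivedCategory.Q.map g) : Nonempty (Homotopy f g) := by
  refine ⟨HomotopyCategory.homotopyOfEq _ _ ((CochainComplex.IsKProjective.Qh_map_bijective K
    ((HomotopyCategory.quotient C _).obj L)).1 ?_)⟩
  have hf := (DerivedCategory.quotientCompQhIso C).hom.naturality f
  have hg := (DerivedCategory.quotientCompQhIso C).hom.naturality g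
  rw [h, ← hg, cancel_mono] at hf
  exact hf

/-- perfect with amplitude in `[a, b]` -/
def PerfIn (P : ObjectProperty C) (a b : ℤ) (F : DerivedCategory C) : Prop :=
  ∃ E : CochainComplex C ℤ, (∀ i : ℤ, P (E.X i)) ∧ (∀ i : ℤ, i < a ∨ b < i → IsZero (E.X i)) ∧
    Nonempty (DerivedCategory.Q.obj E ≅ F)

variable (hsum : ∀ X Y : C, P X → P Y → P (X ⨯ Y))

include hlift hsum in
theorem perfect_cone (T : Triangle (DerivedCategory C)) (hT : T ∈ distTriang (DerivedCategory C))
    (h₁ : ∃ (E : CochainComplex C ℤ) (a b : ℤ), (∀ i : ℤ, i < a ∨ b < i → IsZero (E.X i)) ∧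
      (∀ i : ℤ, P (E.X i)) ∧ Nonempty (DerivedCategory.Q.obj E ≅ T.obj₁))
    (h₂ : ∃ (E : CochainComplex C ℤ) (a b : ℤ), (∀ i : ℤ, i < a ∨ b < i → IsZero (E.X i)) ∧
      (∀ i : ℤ, P (E.X i)) ∧ Nonempty (DerivedCategory.Q.obj E ≅ T.obj₂)) :
    ∃ (E : CochainComplex C ℤ) (a b : ℤ), (∀ i : ℤ, i < a ∨ b < i → IsZero (E.X i)) ∧
      (∀ i : ℤ, P (E.X i)) ∧ Nonempty (DerivedCategory.Q.obj E ≅ T.obj₃) := by
  obtain ⟨E₁, a₁, b₁, hv₁, hP₁, ⟨e₁⟩⟩ := h₁
  obtain ⟨E₂, a₂, b₂, hv₂, hP₂, ⟨e₂⟩⟩ := h₂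
  haveI := isKProjective_of_bounded hlift b₁ (fun i hi => hv₁ i (Or.inr hi)) hP₁
  obtain ⟨f, hf⟩ := exists_chain_map (e₁.hom ≫ T.mor₁ ≫ e₂.inv)
  refine ⟨mappingCone f, min (a₁ - 1) a₂, max b₁ b₂, fun i hi => ?_, fun i => ?_,
    ⟨Triangle.π₃.mapIso (isoTriangleOfIso₁₂ _ T
      (DerivedCategory.mappingCone_triangle_distinguished f) hT e₁ e₂ ?_)⟩⟩
  · refine CohDerRes.isZero_mappingCone_X f i (hv₁ _ ?_) (hv₂ _ ?_) <;> lia
  · exact P.prop_of_iso (homotopyCofiber.XIsoBiprod f i (i + 1) rfl).symm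
      (prop_biprod hsum (hP₁ _) (hP₂ i))
  · show DerivedCategory.Q.map f ≫ e₂.hom = e₁.hom ≫ T.mor₁
    simp [hf]

include hst in
/-- lowering the upper bound -/
theorem perfIn_truncate (a b c : ℤ) (hab : a ≤ b) (F : CochainComplex C ℤ)
    (hP : ∀ i : ℤ, P (F.X i)) (hvan : ∀ i : ℤ, i < a ∨ c < i → IsZero (F.X i))
    (hcoh : ∀ i : ℤ, b < i → IsZero (F.homology i)) :
    PerfIn P a (min b c) (DerivedCategory.Q.obj F) := by
  by_cases hcb : c ≤ b
  · exact ⟨F, hP, fun i hi => hvan i (by rw [min_eq_right hcb] at hi; exact hi), ⟨Iso.refl _⟩⟩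
  haveI : F.IsLE b := (isLE_iff _ _).2 fun i hi => (exactAt_iff_isZero_homology _ _).2 (hcoh i hi)
  refine ⟨F.truncLE b, fun i => ?_, fun i hi => ?_,
    ⟨asIso (DerivedCategory.Q.map (F.ιTruncLE b))⟩⟩
  · rcases lt_trichotomy i b with h | h | h
    · exact P.prop_of_iso (truncLEXIso F b i h).symm (hP i)
    · subst h
      exact P.prop_of_iso (truncLEXIsoCycles F i).symm
        (prop_cycles hst F i (fun j _ => hP j) c (fun j hj => hvan j (Or.inr hj)) hcoh)
    · exact prop_isZero (CochainComplex.isZero_of_isStrictlyLE _ b i h)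
  · rcases hi with h | h
    · exact (hvan i (Or.inl h)).of_iso (truncLEXIso F b i (by lia))
    · exact CochainComplex.isZero_of_isStrictlyLE _ b i (by lia)

include hlift hst hsum in
/-- the lowest term -/
theorem prop_lowest (a b : ℤ) (F : CochainComplex C ℤ)
    (hvan : ∀ i : ℤ, i < a ∨ b < i → IsZero (F.X i)) (hP : ∀ i : ℤ, a < i → P (F.X i))
    (hamp : PerfIn P a b (DerivedCategory.Q.obj F)) : P (F.X a) := by
  obtain ⟨E, hE, hvE, ⟨e⟩⟩ := hamp
  haveI := isKProjective_of_bounded hlift b (fun i hi => hvE i (Or.inr hi)) hE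
  obtain ⟨f, hf⟩ := exists_chain_map e.hom
  haveI : QuasiIso f := (DerivedCategory.isIso_Q_map_iff_quasiIso C f).1 (by rw [hf]; infer_instance)
  let M := mappingCone f
  have hac : ∀ i, IsZero (M.homology i) := fun i =>
    (nqis_iff f i).1 (NQis.of_quasiIso i f) i le_rfl
  have hX : ∀ i, a < i → P (M.X i) := fun i hi =>
    P.prop_of_iso (homotopyCofiber.XIsoBiprod f i (i + 1) rfl).symm
      (prop_biprod hsum (hE _) (hP i hi))
  have hZ : P (M.cycles (a + 1)) := prop_cycles hst M (a + 1) (fun i hi => hX i (by lia)) b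
    (fun i hi => CohDerRes.isZero_mappingCone_X f i (hvE _ (by lia)) (hvan i (Or.inr hi)))
    fun i _ => hac i
  have hMa : P (M.X a) := by
    haveI : Epi (M.toCycles a (a + 1)) :=
      (ShortComplex.exact_of_g_is_cokernel
        (ShortComplex.mk (M.toCycles a (a + 1)) (M.homologyπ (a + 1)) (M.toCycles_comp_homologyπ _ _))
        (M.homologyIsCokernel a (a + 1) (by simp))).epi_f ((hac _).eq_of_tgt _ _)
    have hex : (ShortComplex.mk (M.d (a - 1) a) (M.toCycles a (a + 1))
        (M.d_toCycles _ _ _)).Exact := by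
      rw [ShortComplex.exact_iff_exact_up_to_refinements]
      intro T x hx
      exact ((exactAt_iff_exact_up_to_refinements M (a - 1) a (a + 1) (by simp) (by simp)).1
        ((exactAt_iff_isZero_homology _ _).2 (hac a))) x (by
          have := hx =≫ M.iCycles (a + 1)
          simpa using this)
    haveI : Mono (M.d (a - 1) a) :=
      ((HomologicalComplex.sc' M (a - 2) (a - 1) a).exact_iff_mono
        (((CohDerRes.isZero_mappingCone_X f (a - 2) (hvE _ (by lia)) (hvan _ (by lia)))).eq_of_src _ _)).1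
        ((M.exactAt_iff' (a - 2) (a - 1) a (by simp; lia) (by simp)).1
          ((exactAt_iff_isZero_homology _ _).2 (hac _)))
    haveI : Projective (M.cycles (a + 1)) := projective_of_prop hlift hZ
    have hS : (ShortComplex.mk (M.d (a - 1) a) (M.toCycles a (a + 1))
        (M.d_toCycles _ _ _)).ShortExact := { exact := hex }
    refine P.prop_of_iso hS.splittingOfProjective.isoBinaryBiproduct.symm
      (prop_biprod hsum ?_ hZ)
    haveI : IsIso (biprod.inl : E.X (a - 1 + 1) ⟶ E.X (a - 1 + 1) ⊞ F.X (a - 1)) :=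
      ⟨biprod.fst, biprod.inl_fst, biprod.hom_ext _ _ (by simp)
        ((hvan (a - 1) (by lia)).eq_of_tgt _ _)⟩
    exact P.prop_of_iso ((asIso biprod.inl) ≪≫
      (homotopyCofiber.XIsoBiprod f (a - 1) (a - 1 + 1) rfl).symm) (hE _)
  let eM := homotopyCofiber.XIsoBiprod f a (a + 1) rfl
  exact P.prop_of_iso ((kernelIsKernel (biprod.fst : E.X (a + 1) ⊞ F.X a ⟶ _)).conePointUniqueUpToIso
    (biprod.isKernelFstKernelFork _ _))
    (hst _ _ (biprod.fst : E.X (a + 1) ⊞ F.X a ⟶ _) inferInstance (P.prop_of_iso eM hMa) (hE _))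

include hsum in
theorem perfIn_biprod (a b : ℤ) (F' F'' : DerivedCategory C) [HasBinaryBiproduct F' F'']
    (h₁ : PerfIn P a b F') (h₂ : PerfIn P a b F'') : PerfIn P a b (F' ⊞ F'') := by
  obtain ⟨E₁, hP₁, hv₁, ⟨e₁⟩⟩ := h₁
  obtain ⟨E₂, hP₂, hv₂, ⟨e₂⟩⟩ := h₂
  haveI := preservesBinaryBiproducts_of_preservesBinaryProducts
    (DerivedCategory.Q : CochainComplex C ℤ ⥤ DerivedCategory C)
  exact ⟨E₁ ⊞ E₂, fun i => P.prop_of_iso (biprodXIso E₁ E₂ i).symm (prop_biprod hsum (hP₁ i) (hP₂ i)),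
    fun i hi => ((biprod_isZero_iff _ _).2 ⟨hv₁ i hi, hv₂ i hi⟩).of_iso (biprodXIso E₁ E₂ i),
    ⟨DerivedCategory.Q.mapBiprod E₁ E₂ ≪≫ biprod.mapIso e₁ e₂⟩⟩

omit [HasDerivedCategory.{w} C] in
lemma prop_retract (hret : ∀ (E' E'' : C) [HasBinaryBiproduct E' E''], P (E' ⊞ E'') → P E' ∧ P E'')
    {X Y : C} (i : X ⟶ Y) (r : Y ⟶ X) (h : i ≫ r = 𝟙 X) (hY : P Y) : P X := by
  let S : ShortComplex C := ShortComplex.mk i (cokernel.π i) (cokernel.condition i)
  haveI : Mono S.f := mono_of_mono_fac h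
  let s : S.Splitting := ShortComplex.Splitting.ofExactOfRetraction S
    (ShortComplex.exact_cokernel i) r h (inferInstanceAs (Epi (cokernel.π i)))
  exact (hret _ _ (P.prop_of_iso s.isoBinaryBiproduct hY)).1

include hlift hst hsum in
theorem perfIn_left
    (hret : ∀ (E' E'' : C) [HasBinaryBiproduct E' E''], P (E' ⊞ E'') → P E' ∧ P E'')
    (a b : ℤ) (hab : a ≤ b) (F' F'' : DerivedCategory C) [HasBinaryBiproduct F' F'']
    (h : PerfIn P a b (F' ⊞ F'')) : PerfIn P a b F' := by
  obtain ⟨E, hP, hvan, ⟨e⟩⟩ := h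
  have hqs := quasiStable_of_kernels hst
  have hql := quasiLiftable_of_split hlift
  have hPC : PCoh.IsPC P F' := fun n => ((pcn_biprod_iff hsum hqs hql n F' F'').1
    ((pcn_Q ⟨⟨b, fun i hi => hvan i (Or.inr hi)⟩, fun i _ => hP i⟩).of_iso e)).1
  have hH : ∀ i, i < a ∨ b < i → IsZero ((HC i).obj F') := fun i hi => by
    rw [IsZero.iff_id_eq_zero, ← (HC i).map_id, ← biprod.inl_fst (X := F') (Y := F''),
      Functor.map_comp, ((ShortComplex.isZero_homology_of_isZero_X₂ _ (hvan i hi)).of_iso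
        (repHomology e i).symm).eq_of_tgt ((HC i).map biprod.inl) 0, zero_comp]
  obtain ⟨K, hK, hKz, ⟨k⟩⟩ := exists_strictAll_rep hsum hqs hql F' hPC (m := b + 1)
    fun i hi => hH i (Or.inr (by lia))
  haveI := isKProjective_of_bounded hlift b (fun i hi => hKz i (by lia)) hK.2
  haveI := isKProjective_of_bounded hlift b (fun i hi => hvan i (Or.inr hi)) hP
  obtain ⟨f, hf⟩ := exists_chain_map (k.hom ≫ biprod.inl ≫ e.inv)
  obtain ⟨g, hg⟩ := exists_chain_map (e.hom ≫ biprod.fst ≫ k.inv)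
  obtain ⟨H⟩ := homotopy_of_Q_eq (f ≫ g) (𝟙 K) (by simp [hf, hg])
  haveI : K.IsGE a := (isGE_iff _ _).2 fun i hi => (exactAt_iff_isZero_homology _ _).2
    ((hH i (Or.inl hi)).of_iso (repHomology k i))
  have hC : P (K.opcycles a) := by
    have hH' := H.comm a
    rw [dNext_eq _ (show (ComplexShape.up ℤ).Rel a (a + 1) from rfl),
      prevD_eq _ (show (ComplexShape.up ℤ).Rel (a - 1) a by simp), HomologicalComplex.id_f] at hH'
    have h₀ : K.d (a - 1) a ≫ f.f a = 0 := by
      rw [← f.comm]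
      exact (hvan (a - 1) (by lia)).eq_of_tgt _ _ =≫ _ |>.trans zero_comp
    refine prop_retract hret
      (biprod.lift (K.descOpcycles (f.f a) (a - 1) (by simp) h₀)
        (-(K.fromOpcycles a (a + 1))))
      (biprod.desc (g.f a ≫ K.pOpcycles a) (H.hom (a + 1) a ≫ K.pOpcycles a)) ?_
      (prop_biprod hsum (hP a) (hK.2 (a + 1)))
    rw [← cancel_epi (K.pOpcycles a)]
    have := hH' =≫ K.pOpcycles a
    simp only [HomologicalComplex.comp_f, Preadditive.add_comp, Category.assoc, d_pOpcycles,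
      comp_zero, add_zero, Category.id_comp] at this
    simp [this]
  refine ⟨K.truncGE a, fun i => ?_, fun i hi => ?_,
    ⟨(asIso (DerivedCategory.Q.map (K.πTruncGE a))).symm ≪≫ k⟩⟩
  · rcases lt_trichotomy a i with h | h | h
    · exact P.prop_of_iso (truncGEXIso K a i h).symm (hK.2 i)
    · subst h
      exact P.prop_of_iso (truncGEXIsoOpcycles K a).symm hC
    · exact prop_isZero (CochainComplex.isZero_of_isStrictlyGE _ a i h)
  · rcases hi with h | h
    · exact CochainComplex.isZero_of_isStrictlyGE _ a i h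
    · exact (hKz i (by lia)).of_iso (truncGEXIso K a i (by lia))

include hlift hst hsum in
theorem perfIn_right
    (hret : ∀ (E' E'' : C) [HasBinaryBiproduct E' E''], P (E' ⊞ E'') → P E' ∧ P E'')
    (a b : ℤ) (hab : a ≤ b) (F' F'' : DerivedCategory C) [HasBinaryBiproduct F' F'']
    (h : PerfIn P a b (F' ⊞ F'')) : PerfIn P a b F'' := by
  obtain ⟨E, hP, hvan, ⟨e⟩⟩ := h
  exact perfIn_left hlift hst hsum hret a b hab F'' F'
    ⟨E, hP, hvan, ⟨e ≪≫ biprod.braiding F' F''⟩⟩

end Groth.Agent.PCohLib
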