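import Groth.Agent.PCohLib.Devissage
import Mathlib.Algebra.Homology.Augment

/-!
# Pseudo-coherence of a single object and finite presentations
-/

set_option autoImplicit false
set_option linter.unusedSectionVars false
set_option backward.isDefEq.respectTransparency false
set_option linter.style.haveILetI false

universe w v u

open CategoryTheory Limits HomologicalComplex Pretriangulated ZeroObject

namespace Groth.Agent.PCohLib

variable {C : Type u} [Category.{v} C] [Abelian C]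

/-- a resolution of length `n + 1` by `P` -/
def HasRes (P : ObjectProperty C) (F : C) (n : ℕ) : Prop :=
  ∃ K : ChainComplex C ℕ, Nonempty (K.X 0 ≅ F) ∧ (∀ j : ℕ, j ≤ n → K.ExactAt j) ∧
    (∀ j : ℕ, n + 1 < j → IsZero (K.X j)) ∧ (∀ j : ℕ, 1 ≤ j → j ≤ n + 1 → P (K.X j))

lemma exactAt_zero_iff (K : ChainComplex C ℕ) : K.ExactAt 0 ↔ Epi (K.d 1 0) := by
  rw [exactAt_iff' _ 1 0 0 (by simp) (by simp)]
  exact (K.sc' 1 0 0).exact_iff_epi (K.shape 0 0 (by simp))

/-- exactness after composing the last map with a monomorphism -/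
lemma exact_comp_mono_iff {A B D E : C} (f : A ⟶ B) (g : B ⟶ D) (m : D ⟶ E) [Mono m]
    (w : f ≫ g = 0) (w' : f ≫ g ≫ m = 0) :
    (ShortComplex.mk f g w).Exact ↔ (ShortComplex.mk f (g ≫ m) w').Exact := by
  let φ : ShortComplex.mk f g w ⟶ ShortComplex.mk f (g ≫ m) w' :=
    { τ₁ := 𝟙 _, τ₂ := 𝟙 _, τ₃ := m }
  haveI : Epi φ.τ₁ := inferInstanceAs (Epi (𝟙 A))
  haveI : IsIso φ.τ₂ := inferInstanceAs (IsIso (𝟙 B))
  haveI : Mono φ.τ₃ := inferInstanceAs (Mono m)
  exact ShortComplex.exact_iff_of_epi_of_isIso_of_mono φ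

variable {P : ObjectProperty C} [P.IsClosedUnderIsomorphisms] [P.ContainsZero]

lemma hasRes_zero_iff (F : C) : HasRes P F 0 ↔ PCoh.IsOfFiniteType P F := by
  constructor
  · rintro ⟨K, ⟨e⟩, hex, -, hP⟩
    haveI := (exactAt_zero_iff K).1 (hex 0 le_rfl)
    exact ⟨K.X 1, K.d 1 0 ≫ e.hom, hP 1 le_rfl le_rfl, inferInstance⟩
  · rintro ⟨E, π, hE, hπ⟩
    refine ⟨ChainComplex.augment ((ChainComplex.single₀ C).obj E) π (by simp), ⟨Iso.refl _⟩,
      fun j hj => ?_, fun j hj => ?_, fun j h1 hj => ?_⟩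
    · obtain rfl : j = 0 := by omega
      rw [exactAt_zero_iff]
      exact hπ
    · obtain ⟨i, rfl⟩ : ∃ i, j = i + 2 := ⟨j - 2, by omega⟩
      exact isZero_single_obj_X (ComplexShape.down ℕ) 0 E (i + 1) (by omega)
    · obtain rfl : j = 1 := by omega
      exact P.prop_of_iso (singleObjXSelf (ComplexShape.down ℕ) 0 E).symm hE

lemma hasRes_succ_down {F : C} {n : ℕ} (h : HasRes P F (n + 1)) :
    ∃ (E : C) (π : E ⟶ F), P E ∧ Epi π ∧ HasRes P (kernel π) n := by
  obtain ⟨K, ⟨e⟩, hex, hz, hP⟩ := h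
  haveI := (exactAt_zero_iff K).1 (hex 0 (by omega))
  refine ⟨K.X 1, K.d 1 0 ≫ e.hom, hP 1 le_rfl (by omega), inferInstance, ?_⟩
  let π := K.d 1 0 ≫ e.hom
  let f : (ChainComplex.truncate.obj (ChainComplex.truncate.obj K)).X 0 ⟶ kernel π :=
    kernel.lift π (K.d 2 1) (by simp [π])
  have hf : f ≫ kernel.ι π = K.d 2 1 := kernel.lift_ι _ _ _
  have w : (ChainComplex.truncate.obj (ChainComplex.truncate.obj K)).d 1 0 ≫ f = 0 := by
    rw [← cancel_mono (kernel.ι π), Category.assoc, hf, zero_comp]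
    exact K.d_comp_d 3 2 1
  refine ⟨ChainComplex.augment _ f w, ⟨Iso.refl _⟩, fun j hj => ?_, fun j hj => ?_,
    fun j h1 hj => ?_⟩
  · match j with
    | 0 =>
      rw [exactAt_zero_iff]
      show Epi f
      have he := (K.exactAt_iff' 2 1 0 (by simp) (by simp)).1 (hex 1 (by omega))
      rw [epi_iff_surjective_up_to_refinements]
      intro T y
      obtain ⟨T', p, hp, x, hx⟩ := he.exact_up_to_refinements (y ≫ kernel.ι π) (by
        show (y ≫ kernel.ι π) ≫ K.d 1 0 = 0
        rw [← cancel_mono e.hom, Category.assoc, Category.assoc, zero_comp,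
          show kernel.ι π ≫ K.d 1 0 ≫ e.hom = 0 from kernel.condition π, comp_zero])
      refine ⟨T', p, hp, x, ?_⟩
      rw [← cancel_mono (kernel.ι π), Category.assoc, Category.assoc, hf]
      exact hx
    | 1 =>
      rw [exactAt_iff' _ 2 1 0 (by simp) (by simp)]
      show (ShortComplex.mk (K.d 3 2) f _).Exact
      rw [exact_comp_mono_iff _ _ (kernel.ι π) _ (by rw [hf]; exact K.d_comp_d 3 2 1)]
      simp only [hf]
      exact (K.exactAt_iff' 3 2 1 (by simp) (by simp)).1 (hex 2 (by omega))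
    | i + 2 =>
      rw [exactAt_iff' _ (i + 3) (i + 2) (i + 1) (by simp) (by simp)]
      show (ShortComplex.mk (K.d (i + 4) (i + 3)) (K.d (i + 3) (i + 2)) _).Exact
      exact (K.exactAt_iff' (i + 4) (i + 3) (i + 2) (by simp) (by simp)).1 (hex (i + 3) (by omega))
  · obtain ⟨i, rfl⟩ : ∃ i, j = i + 1 := ⟨j - 1, by omega⟩
    exact hz (i + 2) (by omega)
  · obtain ⟨i, rfl⟩ : ∃ i, j = i + 1 := ⟨j - 1, by omega⟩
    exact hP (i + 2) (by omega) (by omega)

lemma hasRes_succ_up {F E : C} {n : ℕ} (π : E ⟶ F) [Epi π] (hE : P E)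
    (h : HasRes P (kernel π) n) : HasRes P F (n + 1) := by
  obtain ⟨K, ⟨e⟩, hex, hz, hP⟩ := h
  haveI := (exactAt_zero_iff K).1 (hex 0 (by omega))
  let f : (ChainComplex.truncate.obj K).X 0 ⟶ E := K.d 1 0 ≫ e.hom ≫ kernel.ι π
  have w : (ChainComplex.truncate.obj K).d 1 0 ≫ f = 0 := by
    show K.d 2 1 ≫ K.d 1 0 ≫ _ = 0
    rw [K.d_comp_d_assoc, zero_comp]
  have w' : (ChainComplex.augment _ f w).d 1 0 ≫ π = 0 := by
    show f ≫ π = 0
    simp [f]
  refine ⟨ChainComplex.augment (ChainComplex.augment _ f w) π w', ⟨Iso.refl _⟩, fun j hj => ?_,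
    fun j hj => ?_, fun j h1 hj => ?_⟩
  · match j with
    | 0 => rw [exactAt_zero_iff]; assumption
    | 1 =>
      rw [exactAt_iff' _ 2 1 0 (by simp) (by simp), ShortComplex.exact_iff_exact_up_to_refinements]
      intro T y hy
      obtain ⟨T', p, hp, x, hx⟩ :=
        surjective_up_to_refinements_of_epi (K.d 1 0 ≫ e.hom) (kernel.lift π y hy)
      refine ⟨T', p, hp, x, ?_⟩
      have := hx =≫ kernel.ι π
      simp only [Category.assoc, kernel.lift_ι] at this
      exact this
    | 2 =>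
      rw [exactAt_iff' _ 3 2 1 (by simp) (by simp)]
      show (ShortComplex.mk (K.d 2 1) (K.d 1 0 ≫ e.hom ≫ kernel.ι π) _).Exact
      exact (exact_comp_mono_iff _ _ (e.hom ≫ kernel.ι π) (K.d_comp_d 2 1 0) _).1
        ((K.exactAt_iff' 2 1 0 (by simp) (by simp)).1 (hex 1 (by omega)))
    | i + 3 =>
      rw [exactAt_iff' _ (i + 4) (i + 3) (i + 2) (by simp) (by simp)]
      show (ShortComplex.mk (K.d (i + 3) (i + 2)) (K.d (i + 2) (i + 1)) _).Exact
      exact (K.exactAt_iff' (i + 3) (i + 2) (i + 1) (by simp) (by simp)).1 (hex (i + 2) (by omega))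
  · obtain ⟨i, rfl⟩ : ∃ i, j = i + 2 := ⟨j - 2, by omega⟩
    exact hz (i + 1) (by omega)
  · match j, h1 with
    | 1, _ => exact hE
    | i + 2, _ => exact hP (i + 1) (by omega) (by omega)

variable [HasDerivedCategory.{w} C]
  (hsum : ∀ X Y : C, P X → P Y → P (X ⨯ Y))
  (hqs : PCoh.IsQuasiStableUnderKernels P) (hql : PCoh.IsQuasiLiftable P)

include hsum hqs hql

theorem hasRes_iff_pcn (n : ℕ) : ∀ F : C,
    HasRes P F n ↔ PCn P (-(n : ℤ)) ((DerivedCategory.singleFunctor C 0).obj F) := by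
  have h0 : ∀ F : C, PCn P 0 ((DerivedCategory.singleFunctor C 0).obj F) ↔
      PCoh.IsOfFiniteType P F := fun F =>
    (pcn_iff_ft hsum hqs hql 0 _ fun i hi => isZero_single_homology F 0 i (by lia)).trans
      ⟨ft_iso (singleHomologyIso F 0), ft_iso (singleHomologyIso F 0).symm⟩
  induction n with
  | zero =>
    intro F
    rw [hasRes_zero_iff, ← h0]
    simp
  | succ n ih =>
    intro F
    constructor
    · intro h
      obtain ⟨E, π, hE, hπ, hk⟩ := hasRes_succ_down h
      have hS : (ShortComplex.mk (kernel.ι π) π (kernel.condition π)).ShortExact :=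
        { exact := ShortComplex.exact_of_f_is_kernel _ (kernelIsKernel π) }
      exact PCn.of_triangle hsum hqs hql hS.singleTriangle_distinguished
        (((ih _).1 hk).mono (by simp)) (pcn_single_of_prop hE _)
    · intro h
      obtain ⟨E, π, hE, hπ⟩ := (h0 F).1 (h.mono (by lia))
      have hS : (ShortComplex.mk (kernel.ι π) π (kernel.condition π)).ShortExact :=
        { exact := ShortComplex.exact_of_f_is_kernel _ (kernelIsKernel π) }
      refine hasRes_succ_up π hE ((ih _).2 ?_)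
      exact (PCn.triangle₁ hsum hqs hql hS.singleTriangle_distinguished (pcn_single_of_prop hE _)
        h).mono (by simp)

end Groth.Agent.PCohLib
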