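import Groth.Agent.PCohLib.Ext

/-!
# Pseudo-coherence: factorisations of `n`-quasi-isomorphisms
-/

set_option autoImplicit false
set_option linter.unusedSectionVars false
set_option backward.isDefEq.respectTransparency false
set_option linter.style.haveILetI false

universe w v u

open CategoryTheory Limits HomologicalComplex CochainComplex
open Groth.Agent.CohDerRes

namespace Groth.Agent.PCohLib

variable {C : Type u} [Category.{v} C] [Abelian C]

/-- an `n`-quasi-isomorphism is a quasi-isomorphism after changing degrees `< n` -/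
theorem exists_factor_quasiIso {n : ℤ} {E F : CochainComplex C ℤ} (u : E ⟶ F) (h : NQis n u) :
    ∃ (E' : CochainComplex C ℤ) (v : E ⟶ E') (u' : E' ⟶ F), v ≫ u' = u ∧ QuasiIso u' ∧
      (∀ i : ℤ, Mono (v.f i)) ∧ (∀ i : ℤ, n ≤ i → IsIso (v.f i)) := by
  haveI : (mappingCone u).IsLE (n - 1) := (isLE_iff _ _).2 fun i hi =>
    ((mappingCone u).exactAt_iff_isZero_homology i).2 ((nqis_iff u n).1 h i (by lia))
  refine ⟨ext u ((mappingCone u).ιTruncLE (n - 1)), extι u _, extπ u _, extι_extπ u _,
    quasiIso_extπ u _, mono_extι_f u _, fun i hi => isIso_extι_f u _ i ?_⟩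
  exact CochainComplex.isZero_of_isStrictlyLE _ (n - 1) i (by lia)

variable {P : ObjectProperty C} [P.IsClosedUnderIsomorphisms] [P.ContainsZero]

/-- the inductive step: kill the cokernel in degree `n` by one object of `P` -/
theorem exists_step (hql : PCoh.IsQuasiLiftable P) {n : ℤ} {E F : CochainComplex C ℤ} (u : E ⟶ F)
    (h : NQis (n + 1) u) (hcone : PCoh.IsOfFiniteType P ((mappingCone u).homology n)) :
    ∃ (E' : CochainComplex C ℤ) (v : E ⟶ E') (u' : E' ⟶ F), v ≫ u' = u ∧
      (∀ i : ℤ, Mono (v.f i)) ∧ (∀ i : ℤ, i ≠ n → IsIso (v.f i)) ∧ P (cokernel (v.f n)) ∧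
      NQis n u' ∧ ∃ X : C, P X ∧ Nonempty (E'.X n ≅ E.X n ⊞ X) := by
  obtain ⟨X₀, π₀, hX₀, _⟩ := hcone
  obtain ⟨X, v, hX, hv⟩ := hql (pullback ((mappingCone u).homologyπ n) π₀) X₀ (pullback.snd _ _)
    inferInstance hX₀
  have hx : Epi ((v ≫ pullback.fst _ _) ≫ (mappingCone u).homologyπ n) := by
    rw [Category.assoc, pullback.condition, ← Category.assoc]
    infer_instance
  let a := fromSingle n (v ≫ pullback.fst ((mappingCone u).homologyπ n) π₀)
  have ha : NQis n a := nqis_fromSingle n _ hx fun i hi => (nqis_iff u (n + 1)).1 h i (by lia)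
  refine ⟨ext u a, extι u a, extπ u a, extι_extπ u a, mono_extι_f u a, fun i hi =>
    isIso_extι_f u a i (isZero_single_obj_X (ComplexShape.up ℤ) n X i hi),
    P.prop_of_iso ((cokerExtι u a n).trans (singleObjXSelf (ComplexShape.up ℤ) n X)).symm hX,
    nqis_extπ u a n ha, _, P.prop_of_iso (singleObjXSelf (ComplexShape.up ℤ) n X).symm hX,
    ⟨Iso.refl _⟩⟩

end Groth.Agent.PCohLib
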